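import Mathlib.RingTheory.Etale.Locus
import Mathlib.RingTheory.Smooth.Fiber
import Mathlib.RingTheory.Unramified.Finite
import Mathlib.RingTheory.Kaehler.TensorProduct
import Mathlib.RingTheory.Filtration
import Mathlib.RingTheory.Smooth.Flat
import Mathlib.LinearAlgebra.Dimension.OrzechProperty
import Mathlib.RingTheory.LocalRing.Module
import Mathlib.LinearAlgebra.TensorProduct.RightExactness

/-! # Étaleness from the quotients by the powers of an ideal -/

set_option autoImplicit false
set_option linter.style.haveILetI false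
set_option backward.isDefEq.respectTransparency.types false

universe u

open TensorProduct

attribute [local instance] Algebra.TensorProduct.rightAlgebra

noncomputable section

namespace Groth.L27.FEtProper

variable {R : Type u} [CommRing R]

/-- A finite module over a Noetherian local ring with all reductions flat is free. -/
theorem free_of_quotients [IsLocalRing R] [IsNoetherianRing R] {J : Ideal R} (hJ : J ≠ ⊤) (M : Type u)
    [AddCommGroup M] [Module R M] [Module.Finite R M]
    (h : ∀ n, Module.Flat (R ⧸ J ^ (n + 1)) ((R ⧸ J ^ (n + 1)) ⊗[R] M)) : Module.Free R M := by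
  classical
  have hnt : ∀ n, Nontrivial (R ⧸ J ^ (n + 1)) := fun n =>
    Ideal.Quotient.nontrivial_iff.mpr fun ht => hJ (top_le_iff.mp (ht.ge.trans (Ideal.pow_le_self (by omega))))
  haveI := hnt 0
  haveI : IsLocalRing (R ⧸ J ^ (0 + 1)) := IsLocalRing.of_surjective' _ Ideal.Quotient.mk_surjective
  haveI := h 0
  haveI : Module.Free (R ⧸ J ^ (0 + 1)) ((R ⧸ J ^ (0 + 1)) ⊗[R] M) := Module.free_of_flat_of_isLocalRing
  let b := Module.Free.chooseBasis (R ⧸ J ^ (0 + 1)) ((R ⧸ J ^ (0 + 1)) ⊗[R] M)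
  let κ := Module.Free.ChooseBasisIndex (R ⧸ J ^ (0 + 1)) ((R ⧸ J ^ (0 + 1)) ⊗[R] M)
  haveI : Fintype κ := inferInstance
  have hs : Function.Surjective fun m : M => (1 : R ⧸ J ^ (0 + 1)) ⊗ₜ[R] m :=
    TensorProduct.mk_surjective R M (R ⧸ J ^ (0 + 1)) Ideal.Quotient.mk_surjective
  choose m hm using fun j => hs (b j)
  let F : (κ → R) →ₗ[R] M := Fintype.linearCombination R m
  have hF1 : ∀ c, F c = ∑ j, c j • m j := fun c => Fintype.linearCombination_apply R m c
  have hq : ∀ (n : ℕ) (c : κ → R), ((1 : R ⧸ J ^ (n + 1)) ⊗ₜ[R] F c) =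
      ∑ j, Ideal.Quotient.mk (J ^ (n + 1)) (c j) • ((1 : R ⧸ J ^ (n + 1)) ⊗ₜ[R] m j) := by
    intro n c
    rw [hF1, TensorProduct.tmul_sum]
    refine Finset.sum_congr rfl fun j _ => ?_
    rw [TensorProduct.tmul_smul]
    exact (IsScalarTower.algebraMap_smul (R ⧸ J ^ (n + 1)) (c j) ((1 : R ⧸ J ^ (n + 1)) ⊗ₜ[R] m j)).symm
  have hmem : ∀ x : M, ((1 : R ⧸ J ^ (0 + 1)) ⊗ₜ[R] x) = 0 → x ∈ J • (⊤ : Submodule R M) := by
    intro x hx
    have := congrArg (TensorProduct.quotTensorEquivQuotSMul M (J ^ (0 + 1))) hx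
    rw [show (1 : R ⧸ J ^ (0 + 1)) = Ideal.Quotient.mk (J ^ (0 + 1)) 1 from rfl,
      TensorProduct.quotTensorEquivQuotSMul_mk_tmul, map_zero, one_smul, Submodule.Quotient.mk_eq_zero,
      zero_add, pow_one] at this
    exact this
  have hsurj : Function.Surjective F := by
    rw [← LinearMap.range_eq_top]
    refine top_le_iff.mp (Submodule.le_of_le_smul_of_le_jacobson_bot (Module.Finite.fg_top (R := R) (M := M))
      ((IsLocalRing.le_maximalIdeal hJ).trans (IsLocalRing.maximalIdeal_le_jacobson ⊥)) fun x _ => ?_)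
    have hr := b.sum_repr ((1 : R ⧸ J ^ (0 + 1)) ⊗ₜ[R] x)
    choose c hc using fun j => Ideal.Quotient.mk_surjective (b.repr ((1 : R ⧸ J ^ (0 + 1)) ⊗ₜ[R] x) j)
    have he : ((1 : R ⧸ J ^ (0 + 1)) ⊗ₜ[R] (x - F c)) = 0 := by
      rw [TensorProduct.tmul_sub, hq, sub_eq_zero]
      refine hr.symm.trans (Finset.sum_congr rfl fun j _ => ?_)
      rw [hc, ← hm]
    refine Submodule.mem_sup.mpr ⟨F c, ⟨c, rfl⟩, x - F c, hmem _ he, by abel⟩
  have hinj : Function.Injective F := by
    rw [injective_iff_map_eq_zero]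
    intro c hc
    have hz : ∀ n : ℕ, ∀ j, Ideal.Quotient.mk (J ^ (n + 1)) (c j) = 0 := by
      intro n
      haveI := hnt n
      haveI : IsLocalRing (R ⧸ J ^ (n + 1)) := IsLocalRing.of_surjective' _ Ideal.Quotient.mk_surjective
      haveI := h n
      haveI : Module.Free (R ⧸ J ^ (n + 1)) ((R ⧸ J ^ (n + 1)) ⊗[R] M) := Module.free_of_flat_of_isLocalRing
      let bn := Module.Free.chooseBasis (R ⧸ J ^ (n + 1)) ((R ⧸ J ^ (n + 1)) ⊗[R] M)
      let v : κ → (R ⧸ J ^ (n + 1)) ⊗[R] M := fun j => 1 ⊗ₜ[R] m j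
      have hspan : ⊤ ≤ Submodule.span (R ⧸ J ^ (n + 1)) (Set.range v) := by
        intro y _
        obtain ⟨x, rfl⟩ := TensorProduct.mk_surjective R M (R ⧸ J ^ (n + 1)) Ideal.Quotient.mk_surjective y
        obtain ⟨d, rfl⟩ := hsurj x
        show (1 : R ⧸ J ^ (n + 1)) ⊗ₜ[R] F d ∈ _
        rw [hq]
        exact Submodule.sum_mem _ fun j _ => Submodule.smul_mem _ _ (Submodule.subset_span ⟨j, rfl⟩)
      -- the map to the reduction modulo `J`
      let π : (R ⧸ J ^ (n + 1)) →+* R ⧸ J ^ (0 + 1) := Ideal.Quotient.factor (Ideal.pow_le_pow_right (by omega))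
      letI := π.toAlgebra
      haveI : IsScalarTower R (R ⧸ J ^ (n + 1)) (R ⧸ J ^ (0 + 1)) := IsScalarTower.of_algebraMap_eq fun _ => rfl
      let e := TensorProduct.AlgebraTensorModule.cancelBaseChange R (R ⧸ J ^ (n + 1)) (R ⧸ J ^ (0 + 1))
        (R ⧸ J ^ (0 + 1)) M
      have hcard : Fintype.card κ = Module.finrank (R ⧸ J ^ (n + 1)) ((R ⧸ J ^ (n + 1)) ⊗[R] M) := by
        have h1 := Module.finrank_baseChange (R := R ⧸ J ^ (0 + 1)) (S := R ⧸ J ^ (n + 1))
          (M' := (R ⧸ J ^ (n + 1)) ⊗[R] M)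
        rw [e.finrank_eq, Module.finrank_eq_card_basis b] at h1
        exact h1
      let B := basisOfTopLeSpanOfCardEqFinrank v hspan hcard
      have h0 : ∑ j, Ideal.Quotient.mk (J ^ (n + 1)) (c j) • v j = 0 := by
        rw [← hq n c, hc, TensorProduct.tmul_zero]
      intro j
      have hB : ∀ j, B j = v j := fun j => congrFun (coe_basisOfTopLeSpanOfCardEqFinrank v hspan hcard) j
      simp only [← hB] at h0
      exact Fintype.linearIndependent_iff.mp B.linearIndependent _ h0 j
    funext j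
    have : c j ∈ ⨅ n : ℕ, J ^ n := by
      rw [Submodule.mem_iInf]
      intro n
      exact Ideal.pow_le_pow_right (Nat.le_succ n) (Ideal.Quotient.eq_zero_iff_mem.mp (hz n j))
    rwa [Ideal.iInf_pow_eq_bot_of_isLocalRing J hJ, Ideal.mem_bot] at this
  exact Module.Free.of_equiv (LinearEquiv.ofBijective F ⟨hinj, hsurj⟩)

variable [IsNoetherianRing R] (C : Type u) [CommRing C] [Algebra R C] [Module.Finite R C]

/-- A finite algebra with all reductions étale is étale, when the ideal lies in the Jacobson radical of a local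
ring. -/
theorem etale_of_quotients_local [IsLocalRing R] {J : Ideal R} (hJ : J ≠ ⊤)
    (h : ∀ n, Algebra.Etale (R ⧸ J ^ (n + 1)) ((R ⧸ J ^ (n + 1)) ⊗[R] C)) : Algebra.Etale R C := by
  haveI : Module.Free R C := free_of_quotients hJ C fun n => by haveI := h n; infer_instance
  haveI : Algebra.FinitePresentation R C := Algebra.FinitePresentation.of_finiteType.mp inferInstance
  haveI := h 0
  haveI : Algebra.FormallyUnramified R C := by
    refine ⟨?_⟩
    haveI : Module.Finite C (KaehlerDifferential R C) := inferInstance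
    haveI : Module.Finite R (KaehlerDifferential R C) := Module.Finite.trans C _
    let S := R ⧸ J ^ (0 + 1)
    haveI : Algebra.IsPushout R S C (S ⊗[R] C) := inferInstance
    let e := KaehlerDifferential.tensorKaehlerEquivBase R S C (S ⊗[R] C)
    haveI : Subsingleton (KaehlerDifferential S (S ⊗[R] C)) :=
      (inferInstance : Algebra.FormallyUnramified S (S ⊗[R] C)).subsingleton_kaehlerDifferential
    haveI : Subsingleton (S ⊗[R] KaehlerDifferential R C) := e.toEquiv.subsingleton
    have htop : (⊤ : Submodule R (KaehlerDifferential R C)) ≤ J ^ (0 + 1) • ⊤ := by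
      intro x _
      have := congrArg (TensorProduct.quotTensorEquivQuotSMul (KaehlerDifferential R C) (J ^ (0 + 1)))
        (Subsingleton.elim ((Ideal.Quotient.mk (J ^ (0 + 1)) 1 : S) ⊗ₜ[R] x) 0)
      rwa [TensorProduct.quotTensorEquivQuotSMul_mk_tmul, map_zero, one_smul, Submodule.Quotient.mk_eq_zero] at this
    have hbot := Submodule.eq_bot_of_le_smul_of_le_jacobson_bot (J ^ (0 + 1)) _ Module.Finite.fg_top htop
      ((Ideal.pow_le_self (by omega)).trans
        ((IsLocalRing.le_maximalIdeal hJ).trans (IsLocalRing.maximalIdeal_le_jacobson ⊥)))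
    exact Submodule.subsingleton_iff R |>.mp (subsingleton_of_top_le_bot hbot.le)
  exact Algebra.Etale.of_formallyUnramified_of_flat

/-- A finite algebra over a Noetherian ring with all reductions modulo powers of `J` étale is étale near `V(J)`. -/
theorem exists_etale_away {J : Ideal R}
    (h : ∀ n, Algebra.Etale (R ⧸ J ^ (n + 1)) ((R ⧸ J ^ (n + 1)) ⊗[R] C))
    (q : Ideal C) [q.IsPrime] (hq : J.map (algebraMap R C) ≤ q) :
    ∃ f ∉ q, Algebra.Etale R (Localization.Away f) := by
  let p := q.under R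
  haveI : q.LiesOver p := ⟨rfl⟩
  have hp : J ≤ p := Ideal.map_le_iff_le_comap.mp hq
  let Rp := Localization.AtPrime p
  let Sp := Localization (Algebra.algebraMapSubmonoid C p.primeCompl)
  let Sq := Localization.AtPrime q
  haveI : Algebra.IsPushout R Rp C Sp := (Algebra.isPushout_of_isLocalization p.primeCompl _ _ _).symm
  let e := Algebra.IsPushout.equiv R Rp C Sp
  haveI : Algebra.Etale Rp (Rp ⊗[R] C) := by
    refine etale_of_quotients_local (Rp ⊗[R] C) (J := J.map (algebraMap R Rp)) ?_ fun n => ?_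
    · intro ht
      have h1 : J.map (algebraMap R Rp) ≤ IsLocalRing.maximalIdeal Rp := by
        rw [← Localization.AtPrime.map_eq_maximalIdeal]
        exact Ideal.map_mono hp
      exact (IsLocalRing.maximalIdeal.isMaximal Rp).ne_top (top_le_iff.mp (ht.ge.trans h1))
    · haveI := h n
      let T := Rp ⧸ (J.map (algebraMap R Rp)) ^ (n + 1)
      let π : R ⧸ J ^ (n + 1) →+* T := Ideal.Quotient.lift _ (algebraMap R T) fun a ha => by
        rw [IsScalarTower.algebraMap_apply R Rp T, Ideal.Quotient.algebraMap_eq, Ideal.Quotient.eq_zero_iff_mem,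
          ← Ideal.map_pow]
        exact Ideal.mem_map_of_mem _ ha
      letI := π.toAlgebra
      haveI : IsScalarTower R (R ⧸ J ^ (n + 1)) T := IsScalarTower.of_algebraMap_eq fun _ => rfl
      haveI : Algebra.Etale T (T ⊗[R ⧸ J ^ (n + 1)] ((R ⧸ J ^ (n + 1)) ⊗[R] C)) := inferInstance
      exact Algebra.Etale.of_equiv (A := T ⊗[R ⧸ J ^ (n + 1)] ((R ⧸ J ^ (n + 1)) ⊗[R] C))
        (B := T ⊗[Rp] (Rp ⊗[R] C))
        ((Algebra.TensorProduct.cancelBaseChange R (R ⧸ J ^ (n + 1)) T T C).trans
        (Algebra.TensorProduct.cancelBaseChange R Rp T T C).symm)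
  haveI : Algebra.Etale Rp Sp := Algebra.Etale.of_equiv e
  letI := Localization.AtPrime.algebraOfLiesOver p q
  let g : Sp →ₐ[C] Sq := IsLocalization.liftAlgHom (M := Algebra.algebraMapSubmonoid C p.primeCompl)
    (f := Algebra.ofId _ _) (by
      rintro ⟨_, x, hx, rfl⟩
      simpa using! IsLocalization.map_units (M := q.primeCompl) Sq ⟨algebraMap _ _ x,
        by simp_all [q.over_def p]⟩)
  algebraize [g.toRingHom]
  haveI : IsScalarTower R Sp Sq := .to₁₃₄ _ C _ _
  haveI : IsScalarTower Rp Sp Sq := .of_algebraMap_eq' <| by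
    apply IsLocalization.ringHom_ext p.primeCompl
    simp only [RingHom.comp_assoc, ← IsScalarTower.algebraMap_eq]
  haveI : IsLocalization (Algebra.algebraMapSubmonoid Sp q.primeCompl) Sq :=
    .isLocalization_of_submonoid_le _ _ (Algebra.algebraMapSubmonoid C p.primeCompl) _
    (by rintro _ ⟨x, hx, rfl⟩; simp_all [q.over_def p])
  haveI : Algebra.FormallyEtale Sp Sq := .of_isLocalization (Algebra.algebraMapSubmonoid Sp q.primeCompl)
  haveI : Algebra.FormallyEtale R Rp := .of_isLocalization p.primeCompl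
  haveI : Algebra.FormallyEtale Rp Sq := .comp Rp Sp Sq
  haveI : Algebra.IsEtaleAt R q := Algebra.FormallyEtale.comp R Rp Sq
  haveI : Algebra.FinitePresentation R C := Algebra.FinitePresentation.of_finiteType.mp inferInstance
  exact Algebra.exists_etale_of_isEtaleAt q

end Groth.L27.FEtProper
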