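import Groth.Agent.L27.FEtProper.Complete
import Groth.Agent.L19.Limit.OverBase
import Groth.Agent.L27.IndEtale
import Groth.Agent.S12073
import Groth.Agent.S14050
import Mathlib.RingTheory.AdicCompletion.Completeness
import Mathlib.Algebra.Category.Ring.FinitePresentation

/-! # Finite étale covers over a henselian pair with a G-ring -/

set_option autoImplicit false
set_option linter.style.haveILetI false
set_option backward.isDefEq.respectTransparency false
set_option backward.isDefEq.respectTransparency.types false

universe u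

open CategoryTheory CategoryTheory.Limits AlgebraicGeometry TopologicalSpace Opposite

noncomputable section

namespace Groth.L27.FEtProper

variable {A : Type u} [CommRing A] (I : Ideal A) {X : Scheme.{u}} (f : X ⟶ Spec (CommRingCat.of A))

/-- The spectrum of the completion. -/
abbrev complι : Spec (CommRingCat.of (AdicCompletion I A)) ⟶ Spec (CommRingCat.of A) :=
  Spec.map (CommRingCat.ofHom (algebraMap A (AdicCompletion I A)))

/-- Reduction of the completion modulo the ideal. -/
abbrev redCompl : Spec (CommRingCat.of (A ⧸ I)) ⟶ Spec (CommRingCat.of (AdicCompletion I A)) :=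
  Spec.map (CommRingCat.ofHom (AdicCompletion.evalOneₐ I).toRingHom)

theorem redCompl_complι : redCompl I ≫ complι I = HenselProper.ι I := by
  rw [← Spec.map_comp, ← CommRingCat.ofHom_comp]
  exact congrArg (fun r => Spec.map (CommRingCat.ofHom r)) (RingHom.ext fun a => (AdicCompletion.evalOneₐ I).commutes a)

/-- The special fibre inside the base change to the completion. -/
def toCompl : pullback f (HenselProper.ι I) ⟶ pullback f (complι I) :=
  pullback.lift (pullback.fst f (HenselProper.ι I)) (pullback.snd f (HenselProper.ι I) ≫ redCompl I)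
    (by rw [Category.assoc, redCompl_complι]; exact pullback.condition)

/-- Covers of the special fibre lift to the completion. -/
theorem exists_cover_compl [IsNoetherianRing A] [IsProper f] (U₀ : FEt.Cat (pullback f (HenselProper.ι I))) :
    ∃ V : FEt.Cat (pullback f (complι I)), Nonempty ((FEt.restrict (toCompl I f)).obj V ≅ U₀) := by
  let B := AdicCompletion I A
  haveI : IsNoetherianRing B := Groth.Agent.S0543.result A I
  let J : Ideal B := I.map (algebraMap A B)
  haveI : IsAdicComplete J B :=
    (IsAdicComplete.map_algebraMap_iff _ _).mpr (AdicCompletion.isAdicComplete (IsNoetherian.noetherian I))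
  let fc : pullback f (complι I) ⟶ Spec (CommRingCat.of B) := pullback.snd f (complι I)
  have hker : RingHom.ker (AdicCompletion.evalOneₐ I).toRingHom = J :=
    AdicCompletion.ker_evalOneₐ_eq_map I (IsNoetherian.noetherian I)
  let r : (B ⧸ J) ≃+* (A ⧸ I) := (Ideal.quotEquivOfEq hker.symm).trans
    (RingHom.quotientKerEquivOfSurjective (AdicCompletion.evalOneₐ_surjective I))
  let s : Spec (CommRingCat.of (A ⧸ I)) ≅ Spec (CommRingCat.of (B ⧸ J)) :=
    Scheme.Spec.mapIso r.toCommRingCatIso.op
  have hs : s.hom ≫ HenselProper.ι J = redCompl I := by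
    show Spec.map _ ≫ Spec.map _ = Spec.map _
    rw [← Spec.map_comp]
    rfl
  have h1 : IsPullback (toCompl I f) (pullback.snd f (HenselProper.ι I)) fc (redCompl I) := by
    refine IsPullback.of_right ?_ (pullback.lift_snd _ _ _) (IsPullback.of_hasPullback f (complι I))
    rw [toCompl, pullback.lift_fst, redCompl_complι]
    exact IsPullback.of_hasPullback f (HenselProper.ι I)
  have h2 : IsPullback (toCompl I f) (pullback.snd f (HenselProper.ι I) ≫ s.hom) fc (HenselProper.ι J) := by
    refine h1.of_iso (Iso.refl _) (Iso.refl _) s (Iso.refl _) (by simp) (by simp) (by simp) ?_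
    simpa using hs.symm
  let e := h2.isoPullback
  have he : e.hom ≫ i J fc = toCompl I f := h2.isoPullback_hom_fst
  haveI := isEquivalence_complete J fc
  haveI : (FEt.restrict e.hom).IsEquivalence := Groth.Agent.S0238.result e.hom
  refine ⟨(FEt.restrict (i J fc)).objPreimage ((FEt.restrict e.hom).objPreimage U₀), ⟨?_⟩⟩
  exact (restrictCongr he).symm.app _ ≪≫ (restrictComp e.hom (i J fc)).app _ ≪≫
    (FEt.restrict e.hom).mapIso ((FEt.restrict (i J fc)).objObjPreimageIso _) ≪≫
    (FEt.restrict e.hom).objObjPreimageIso U₀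

/-- Essential surjectivity for henselian pairs of G-rings. -/
theorem essSurj_isGRing [HenselianRing A I] (hG : CAlg.IsGRing A) [IsProper f] :
    (FEt.restrict (i I f)).EssSurj where
  mem_essImage U₀ := by
    haveI : IsNoetherianRing A := hG.1
    obtain ⟨V, ⟨ψ⟩⟩ := exists_cover_compl I f U₀
    let Q : MorphismProperty CommRingCat.{u} := RingHom.toMorphismProperty RingHom.FinitePresentation
    haveI : Q.RespectsIso :=
      RingHom.toMorphismProperty_respectsIso_iff.mp RingHom.finitePresentation_respectsIso
    have hind : MorphismProperty.ind.{u} Q (CommRingCat.ofHom (algebraMap A (AdicCompletion I A))) :=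
      Groth.L27.IndEtale.ind_of_factor (Q := Q) (fun f hf => hf) fun P _ _ hP φ =>
        ⟨P, inferInstance, inferInstance, AlgHom.id A P, φ, RingHom.finitePresentation_algebraMap.mpr hP, rfl⟩
    obtain ⟨Js, _, _, D, t, s, hs, hst⟩ := hind
    haveI : PreservesLimitsOfSize.{u, u} Scheme.Spec.{u} := ΓSpec.adjunction.rightAdjoint_preservesLimits
    let Ds : Jsᵒᵖ ⥤ Scheme.{u} := D.op ⋙ Scheme.Spec
    let cs : Cone Ds := Scheme.Spec.mapCone (Cocone.mk _ s).op
    let hcs : IsLimit cs := isLimitOfPreserves Scheme.Spec hs.op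
    haveI hbase : ∀ {j k : Jsᵒᵖ} (g : j ⟶ k), IsAffineHom (Ds.map g) := fun g =>
      inferInstanceAs (IsAffineHom (Spec.map _))
    let tt : ∀ j, Ds.obj j ⟶ Spec (CommRingCat.of A) := fun j => Spec.map (t.app j.unop)
    have htt : ∀ {j k : Jsᵒᵖ} (g : j ⟶ k), Ds.map g ≫ tt k = tt j := fun {j k} g => by
      show Spec.map (D.map g.unop) ≫ Spec.map (t.app k.unop) = Spec.map (t.app j.unop)
      rw [← Spec.map_comp, ← t.naturality]
      simp
    have hT : ∀ j, cs.π.app j ≫ tt j = complι I := fun j => by
      show Spec.map (s.app j.unop) ≫ Spec.map (t.app j.unop) = _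
      rw [← Spec.map_comp, (hst j.unop).2]
    let DX := Groth.L19.Limit.baseDiagram f tt htt
    let cX := Groth.L19.Limit.baseCone f tt htt (complι I) hT (c := cs)
    let hcX := Groth.L19.Limit.isLimitBaseCone f tt htt (complι I) hT hcs
    haveI : ∀ (j k : Jsᵒᵖ) (g : j ⟶ k), IsAffineHom (DX.map g) := fun j k g =>
      Groth.L19.Limit.isAffineHom_baseDiagram_map f tt htt g
    haveI : ∀ j, IsAffine (Ds.obj j) := fun j => inferInstanceAs (IsAffine (Spec _))
    haveI hqc : ∀ j, CompactSpace ↥(DX.obj j) := fun j =>
      QuasiCompact.compactSpace_of_compactSpace (pullback.snd f (tt j))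
    haveI hqs : ∀ j, QuasiSeparatedSpace ↥(DX.obj j) := fun j =>
      quasiSeparatedSpace_of_quasiSeparated (pullback.snd f (tt j))
    obtain ⟨j, Vj, ⟨χ⟩⟩ := (Groth.Agent.S12073.result DX cX hcX).1 V
    -- approximate the structure map of the stage
    let B := D.obj j.unop
    let Bu : Under (CommRingCat.of A) := Under.mk (t.app j.unop)
    haveI hfp : IsFinitelyPresentable.{u} Bu := CommRingCat.isFinitelyPresentable_under _ Bu (hst j.unop).1
    let F := coyoneda.obj (op Bu)
    have hF : ∀ (K : Type u) [SmallCategory K] [IsFiltered K], PreservesColimitsOfShape K F := fun K _ _ => by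
      haveI := (isFinitelyPresentable_iff_preservesFilteredColimits.{u}).mp hfp
      infer_instance
    let ξ : F.obj (Under.mk (CommRingCat.ofHom (algebraMap A (AdicCompletion I A)))) :=
      Under.homMk (s.app j.unop) (hst j.unop).2
    let π : Under.mk (CommRingCat.ofHom (algebraMap A (AdicCompletion I A))) ⟶
        Under.mk (CommRingCat.ofHom (algebraMap A (A ⧸ I ^ (0 + 1)))) :=
      Under.homMk (CommRingCat.ofHom (AdicCompletion.evalₐ I (0 + 1)).toRingHom)
        (CommRingCat.hom_ext (RingHom.ext (AdicCompletion.evalₐ I (0 + 1)).commutes))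
    let ρ : Under.mk (𝟙 (CommRingCat.of A)) ⟶ Under.mk (CommRingCat.ofHom (algebraMap A (A ⧸ I ^ (0 + 1)))) :=
      Under.homMk (CommRingCat.ofHom (algebraMap A (A ⧸ I ^ (0 + 1)))) (Category.id_comp _)
    obtain ⟨η, hη⟩ := Groth.Agent.S14050.result A I hG F hF 0 π rfl ρ ξ
    let τ : B ⟶ CommRingCat.of A := η.right
    have hτ : t.app j.unop ≫ τ = 𝟙 _ := Under.w η
    have hη' : τ ≫ CommRingCat.ofHom (Ideal.Quotient.mk I) =
        s.app j.unop ≫ CommRingCat.ofHom (AdicCompletion.evalOneₐ I).toRingHom := by
      have h0 : τ ≫ CommRingCat.ofHom (algebraMap A (A ⧸ I ^ (0 + 1))) =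
          s.app j.unop ≫ CommRingCat.ofHom (AdicCompletion.evalₐ I (0 + 1)).toRingHom :=
        congrArg (fun k => CommaMorphism.right k) hη
      have hle : I ^ (0 + 1) ≤ I := (zero_add 1).symm ▸ (pow_one I).le
      have h1 := congrArg (· ≫ CommRingCat.ofHom (Ideal.Quotient.factor hle)) h0
      refine Eq.trans ?_ (h1.trans ?_)
      · simp only [Category.assoc]
        exact congrArg (τ ≫ ·) (CommRingCat.hom_ext (RingHom.ext fun a => rfl))
      · simp only [Category.assoc]
        refine congrArg (s.app j.unop ≫ ·) (CommRingCat.hom_ext (RingHom.ext fun a => ?_))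
        exact (AdicCompletion.factorₐ_evalₐ_one I a).symm
    let σ : X ⟶ DX.obj j := pullback.lift (𝟙 X) (f ≫ Spec.map τ) (by
      rw [Category.id_comp, Category.assoc]
      show f = f ≫ Spec.map τ ≫ Spec.map (t.app j.unop)
      rw [← Spec.map_comp, hτ, Spec.map_id]
      exact (Category.comp_id f).symm)
    have hσ : i I f ≫ σ = toCompl I f ≫ cX.π.app j := by
      have hfst : cX.π.app j ≫ pullback.fst f (tt j) = pullback.fst f (complι I) :=
        (pullback.lift_fst _ _ _).trans (Category.comp_id _)
      have hsnd : cX.π.app j ≫ pullback.snd f (tt j) = pullback.snd f (complι I) ≫ Spec.map (s.app j.unop) :=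
        pullback.lift_snd _ _ _
      refine pullback.hom_ext ?_ ?_
      · refine (Category.assoc _ _ _).trans (Eq.trans ?_ (Category.assoc _ _ _).symm)
        exact (congrArg (i I f ≫ ·) (pullback.lift_fst _ _ _)).trans ((Category.comp_id _).trans
          ((pullback.lift_fst _ _ _).symm.trans (congrArg (toCompl I f ≫ ·) hfst.symm)))
      · refine (Category.assoc _ _ _).trans (Eq.trans ?_ (Category.assoc _ _ _).symm)
        refine (congrArg (i I f ≫ ·) (pullback.lift_snd _ _ _)).trans ?_
        refine Eq.trans ?_ (congrArg (toCompl I f ≫ ·) hsnd.symm)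
        rw [← Category.assoc, ← Category.assoc, toCompl, pullback.lift_snd, pullback.condition, Category.assoc,
          Category.assoc]
        refine congrArg (pullback.snd f (HenselProper.ι I) ≫ ·) ?_
        show Spec.map _ ≫ Spec.map τ = Spec.map _ ≫ Spec.map _
        rw [← Spec.map_comp, ← Spec.map_comp, hη']
    refine ⟨(FEt.restrict σ).obj Vj, ⟨?_⟩⟩
    exact (restrictComp (i I f) σ).symm.app Vj ≪≫ (restrictCongr hσ).app Vj ≪≫
      (restrictComp (toCompl I f) (cX.π.app j)).app Vj ≪≫ (FEt.restrict (toCompl I f)).mapIso χ ≪≫ ψ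

end Groth.L27.FEtProper
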