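import Groth.Agent.L27.HenselProperGen
import Groth.Prelude.Def_FEt
import Mathlib.AlgebraicGeometry.Morphisms.FlatMono

/-! # Finite étale covers of a proper scheme over a henselian pair: sections and full faithfulness -/

set_option autoImplicit false
set_option linter.style.haveILetI false
set_option backward.isDefEq.respectTransparency false
set_option backward.isDefEq.respectTransparency.types false

universe u

open CategoryTheory CategoryTheory.Limits AlgebraicGeometry TopologicalSpace

noncomputable section

namespace Groth.L27.FEtProper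

open Groth.L27.HenselProper (ι range_ι closed_eq_empty_general clopen_lift_along_general)

variable {A : Type u} [CommRing A] (I : Ideal A) {X : Scheme.{u}} (f : X ⟶ Spec (CommRingCat.of A))

/-- The special fibre inclusion. -/
abbrev i : pullback f (ι I) ⟶ X := pullback.fst f (ι I)

theorem range_fst_i {T : Scheme.{u}} (g : T ⟶ X) :
    Set.range (pullback.fst g (i I f)) = Set.range (pullback.fst (g ≫ f) (ι I)) := by
  rw [Scheme.Pullback.range_fst, Scheme.Pullback.range_fst, Scheme.Pullback.range_fst, ← Set.preimage_comp]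
  rfl

variable [HenselianRing A I]

/-- A closed set missing the special fibre is empty. -/
theorem eq_empty {T : Scheme.{u}} (g : T ⟶ X) [IsProper (g ≫ f)] {Z : Set T} (hZ : IsClosed Z)
    (hd : Disjoint (Set.range (pullback.fst g (i I f))) Z) : Z = ∅ :=
  closed_eq_empty_general I (g ≫ f) hZ (by rwa [range_fst_i] at hd)

/-- Lifts into a separated étale scheme agree as soon as they agree on the special fibre. -/
theorem hom_eq {T E : Scheme.{u}} (g : T ⟶ X) [IsProper (g ≫ f)] (q : E ⟶ X) [Etale q] [IsSeparated q]
    (a b : T ⟶ E) (ha : a ≫ q = g) (hb : b ≫ q = g)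
    (h : pullback.fst g (i I f) ≫ a = pullback.fst g (i I f) ≫ b) : a = b := by
  let d : T ⟶ pullback.diagonalObj q := pullback.lift a b (ha.trans hb.symm)
  let r := pullback.fst d (pullback.diagonal q)
  haveI : IsClosedImmersion r := MorphismProperty.pullback_fst (P := @IsClosedImmersion) _ _ inferInstance
  haveI : IsOpenImmersion r := MorphismProperty.pullback_fst (P := @IsOpenImmersion) _ _ inferInstance
  have hsub : Set.range (pullback.fst g (i I f)) ⊆ Set.range r := by
    have hf : pullback.fst g (i I f) ≫ d = (pullback.fst g (i I f) ≫ a) ≫ pullback.diagonal q := by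
      apply pullback.hom_ext
      · simp [d]
      · simp [d, h]
    rintro _ ⟨x, rfl⟩
    exact ⟨pullback.lift (pullback.fst g (i I f)) (pullback.fst g (i I f) ≫ a) hf x, by
      rw [← Scheme.Hom.comp_apply, pullback.lift_fst]⟩
  have hc : (Set.range r)ᶜ = ∅ := eq_empty I f g r.isOpenEmbedding.isOpen_range.isClosed_compl
    (Set.disjoint_compl_right_iff_subset.mpr hsub)
  haveI : Surjective r := ⟨fun x => by
    have : x ∈ Set.range r := by
      by_contra hx
      exact (Set.eq_empty_iff_forall_notMem.mp hc) x hx
    exact this⟩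
  haveI : Epi r.base := (TopCat.epi_iff_surjective _).mpr r.surjective
  haveI : IsIso r := IsOpenImmersion.isIso r
  have hd : d = (inv r ≫ pullback.snd d (pullback.diagonal q)) ≫ pullback.diagonal q := by
    rw [Category.assoc, ← pullback.condition, IsIso.inv_hom_id_assoc]
  have h1 : d ≫ pullback.fst q q = d ≫ pullback.snd q q := by
    rw [hd]
    simp only [Category.assoc, pullback.diagonal_fst, pullback.diagonal_snd]
  simpa [d] using h1

/-- Sections of finite étale schemes lift from the special fibre. -/
theorem exists_section [IsProper f] {E : Scheme.{u}} (q : E ⟶ X) [IsFinite q] [Etale q]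
    (s₀ : pullback f (ι I) ⟶ E) (hs₀ : s₀ ≫ q = i I f) :
    ∃ s : X ⟶ E, s ≫ q = 𝟙 X ∧ i I f ≫ s = s₀ := by
  let i₀ := i I f
  let q₀ := pullback.snd q i₀
  let σ : pullback f (ι I) ⟶ pullback q i₀ := pullback.lift s₀ (𝟙 _) (by rw [Category.id_comp]; exact hs₀)
  have hσ : σ ≫ q₀ = 𝟙 _ := pullback.lift_snd _ _ _
  haveI : Etale q₀ := MorphismProperty.pullback_snd (P := @Etale) _ _ inferInstance
  haveI : IsFinite q₀ := MorphismProperty.pullback_snd (P := @IsFinite) _ _ inferInstance
  haveI : IsClosedImmersion (σ ≫ q₀) := by rw [hσ]; infer_instance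
  haveI : IsOpenImmersion (σ ≫ q₀) := by rw [hσ]; infer_instance
  haveI : IsClosedImmersion σ := IsClosedImmersion.of_comp σ q₀
  haveI : Etale σ := by
    haveI : Etale (σ ≫ q₀) := by rw [hσ]; infer_instance
    exact Etale.of_comp σ q₀
  haveI : IsOpenImmersion σ := by
    haveI : Mono σ := inferInstance
    exact IsOpenImmersion.of_flat_of_mono σ
  have hV : IsClopen (Set.range σ) := ⟨σ.isClosedEmbedding.isClosed_range, σ.isOpenEmbedding.isOpen_range⟩
  obtain ⟨U, ⟨hU, hUV⟩, -⟩ := clopen_lift_along_general I f E q inferInstance (Set.range σ) hV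
  let Z : E.Opens := ⟨U, hU.isOpen⟩
  haveI : IsClosedImmersion Z.ι := by
    refine IsClosedImmersion.of_isPreimmersion _ ?_
    rw [Scheme.Opens.range_ι]; exact hU.isClosed
  let j : (Z : Scheme.{u}) ⟶ X := Z.ι ≫ q
  haveI : IsFinite j := inferInstanceAs (IsFinite (Z.ι ≫ q))
  haveI : Etale j := inferInstanceAs (Etale (Z.ι ≫ q))
  have hσZ : Set.range (σ ≫ pullback.fst q i₀) ⊆ Set.range Z.ι := by
    rw [Scheme.Opens.range_ι]
    rintro _ ⟨x, rfl⟩
    exact hUV.ge ⟨x, rfl⟩
  let τ : pullback f (ι I) ⟶ (Z : Scheme.{u}) := IsOpenImmersion.lift Z.ι (σ ≫ pullback.fst q i₀) hσZ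
  have hτ : τ ≫ Z.ι = s₀ := (IsOpenImmersion.lift_fac _ _ _).trans (pullback.lift_fst _ _ _)
  -- the special fibre of `j` is the identity
  have key : ∀ {T : Scheme.{u}} (a : T ⟶ Z) (b : T ⟶ pullback f (ι I)), a ≫ j = b ≫ i₀ → a = b ≫ τ := by
    intro T a b hab
    let m : T ⟶ pullback q i₀ := pullback.lift (a ≫ Z.ι) b (by rw [Category.assoc]; exact hab)
    have hm : Set.range m ⊆ Set.range σ := by
      rintro _ ⟨x, rfl⟩
      refine hUV.le ?_
      show pullback.fst q i₀ (m x) ∈ U
      rw [← Scheme.Hom.comp_apply, pullback.lift_fst, Scheme.Hom.comp_apply]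
      exact (a x).2
    have hb : IsOpenImmersion.lift σ m hm = b := by
      have := congrArg (· ≫ q₀) (IsOpenImmersion.lift_fac σ m hm)
      simp only [Category.assoc, hσ, Category.comp_id] at this
      exact this.trans (pullback.lift_snd _ _ _)
    rw [← cancel_mono Z.ι, Category.assoc, hτ]
    calc a ≫ Z.ι = m ≫ pullback.fst q i₀ := (pullback.lift_fst _ _ _).symm
      _ = b ≫ σ ≫ pullback.fst q i₀ := by
        rw [← Category.assoc b, ← hb, IsOpenImmersion.lift_fac]
      _ = b ≫ s₀ := by rw [pullback.lift_fst]
  haveI : IsProper ((pullback.fst j j ≫ j) ≫ f) := inferInstance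
  haveI : Mono j := by
    refine ⟨fun {T} a b hab => ?_⟩
    have hp : pullback.fst j j = pullback.snd j j := by
      refine hom_eq I f (pullback.fst j j ≫ j) j _ _ rfl pullback.condition.symm ?_
      refine (key _ (pullback.snd _ (i I f)) ?_).trans (key _ (pullback.snd _ (i I f)) ?_).symm
      · rw [Category.assoc]; exact pullback.condition
      · rw [Category.assoc, ← pullback.condition (f := j) (g := j)]; exact pullback.condition
    calc a = pullback.lift a b hab ≫ pullback.fst j j := (pullback.lift_fst _ _ _).symm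
      _ = pullback.lift a b hab ≫ pullback.snd j j := by rw [hp]
      _ = b := pullback.lift_snd _ _ _
  haveI : IsOpenImmersion j := IsOpenImmersion.of_flat_of_mono j
  have hsub : Set.range (i I f) ⊆ Set.range j := by
    rintro _ ⟨x, rfl⟩
    refine ⟨τ x, ?_⟩
    rw [← Scheme.Hom.comp_apply, show τ ≫ j = i I f by rw [← Category.assoc, hτ]; exact hs₀]
  have hc : (Set.range j)ᶜ = ∅ := closed_eq_empty_general I f j.isOpenEmbedding.isOpen_range.isClosed_compl
    (Set.disjoint_compl_right_iff_subset.mpr hsub)
  haveI : Surjective j := ⟨fun x => by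
    have : x ∈ Set.range j := by
      by_contra hx
      exact (Set.eq_empty_iff_forall_notMem.mp hc) x hx
    exact this⟩
  haveI : Epi j.base := (TopCat.epi_iff_surjective _).mpr j.surjective
  haveI : IsIso j := IsOpenImmersion.isIso j
  refine ⟨inv j ≫ Z.ι, by rw [Category.assoc]; exact IsIso.inv_hom_id j, ?_⟩
  have h3 : i I f ≫ inv j = τ := by
    rw [IsIso.comp_inv_eq, ← Category.assoc, hτ]
    exact hs₀.symm
  rw [← Category.assoc, h3, hτ]

variable [IsProper f]

/-- Restriction of finite étale covers to the special fibre is faithful. -/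
theorem faithful : (FEt.restrict (i I f)).Faithful where
  map_injective {U V a b} h := by
    haveI : IsFinite U.hom := U.prop.1
    haveI : IsFinite V.hom := V.prop.1
    haveI : Etale V.hom := V.prop.2
    haveI : IsProper (U.hom ≫ f) := inferInstance
    refine MorphismProperty.Over.Hom.ext (hom_eq I f U.hom V.hom a.left b.left
      (MorphismProperty.Over.w a) (MorphismProperty.Over.w b) ?_)
    have h2 := congrArg (fun t => CommaMorphism.left (MorphismProperty.Comma.Hom.hom t) ≫ pullback.fst V.hom (i I f)) h
    simp only [FEt.restrict] at h2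
    refine Eq.trans ?_ (h2.trans ?_)
    · exact (pullback.lift_fst _ _ _).symm
    · exact pullback.lift_fst _ _ _

/-- Restriction of finite étale covers to the special fibre is full. -/
theorem full : (FEt.restrict (i I f)).Full where
  map_surjective {U V} ψ := by
    haveI : IsFinite U.hom := U.prop.1
    haveI : IsFinite V.hom := V.prop.1
    haveI : Etale V.hom := V.prop.2
    haveI : IsProper (U.hom ≫ f) := inferInstance
    let q := pullback.fst U.hom V.hom
    haveI : IsFinite q := MorphismProperty.pullback_fst (P := @IsFinite) _ _ inferInstance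
    haveI : Etale q := MorphismProperty.pullback_fst (P := @Etale) _ _ inferInstance
    let θ := pullbackRightPullbackFstIso f (ι I) U.hom
    let ψ' : pullback U.hom (i I f) ⟶ pullback V.hom (i I f) := ψ.left
    have hψ' : ψ' ≫ pullback.snd V.hom (i I f) = pullback.snd U.hom (i I f) := MorphismProperty.Over.w ψ
    have hθ : θ.inv ≫ pullback.fst U.hom (i I f) = i I (U.hom ≫ f) :=
      (Iso.inv_comp_eq _).mpr (pullbackRightPullbackFstIso_hom_fst f (ι I) U.hom).symm
    let s₀ : pullback (U.hom ≫ f) (ι I) ⟶ pullback U.hom V.hom :=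
      pullback.lift (θ.inv ≫ pullback.fst U.hom (i I f)) (θ.inv ≫ ψ' ≫ pullback.fst V.hom (i I f)) (by
        simp only [Category.assoc]
        rw [pullback.condition, pullback.condition, ← Category.assoc ψ', hψ'])
    obtain ⟨s, hs, hs'⟩ := exists_section I (U.hom ≫ f) q s₀ ((pullback.lift_fst _ _ _).trans hθ)
    have hw : (s ≫ pullback.snd U.hom V.hom) ≫ V.hom = U.hom := by
      rw [Category.assoc, ← pullback.condition, ← Category.assoc]
      exact (congrArg (· ≫ U.hom) hs).trans (Category.id_comp _)
    refine ⟨MorphismProperty.Over.homMk (s ≫ pullback.snd U.hom V.hom) hw, MorphismProperty.Over.Hom.ext ?_⟩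
    refine pullback.hom_ext ((pullback.lift_fst _ _ _).trans ?_) ((pullback.lift_snd _ _ _).trans hψ'.symm)
    show pullback.fst U.hom (i I f) ≫ s ≫ pullback.snd U.hom V.hom = ψ' ≫ pullback.fst V.hom (i I f)
    rw [← cancel_epi θ.inv, ← Category.assoc, hθ, ← Category.assoc, hs']
    exact pullback.lift_snd _ _ _

end Groth.L27.FEtProper
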