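import Groth.Agent.L27.FEtProper.EtaleThick
import Groth.Agent.L27.FEtProper.FullFaithful
import Groth.Agent.L27.AlgFin.Main
import Groth.Agent.S0238
import Mathlib.RingTheory.Henselian

/-! # Finite étale covers of a proper scheme over a complete Noetherian ring -/

set_option autoImplicit false
set_option linter.style.haveILetI false
set_option backward.isDefEq.respectTransparency false
set_option backward.isDefEq.respectTransparency.types false

universe u

open CategoryTheory CategoryTheory.Limits AlgebraicGeometry TopologicalSpace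

noncomputable section

namespace Groth.L27.FEtProper

/-- Restriction along a composite. -/
def restrictComp {X Y Z : Scheme.{u}} (a : X ⟶ Y) (b : Y ⟶ Z) :
    FEt.restrict (a ≫ b) ≅ FEt.restrict b ⋙ FEt.restrict a :=
  MorphismProperty.Over.pullbackComp a b

/-- Restriction along equal morphisms. -/
def restrictCongr {X Y : Scheme.{u}} {a b : X ⟶ Y} (h : a = b) : FEt.restrict a ≅ FEt.restrict b :=
  MorphismProperty.Over.pullbackCongr h

variable {A : Type u} [CommRing A] (I : Ideal A) {X : Scheme.{u}} (f : X ⟶ Spec (CommRingCat.of A))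

theorem range_specQuot (n : ℕ) : Set.range (CohB1.specQuot I n) = PrimeSpectrum.zeroLocus (I : Set A) := by
  show Set.range (PrimeSpectrum.comap (Ideal.Quotient.mk (I ^ (n + 1)))) = _
  rw [range_comap_of_surjective _ _ Ideal.Quotient.mk_surjective, Ideal.mk_ker,
    PrimeSpectrum.zeroLocus_pow I n.succ_ne_zero]

theorem isClosedImmersion_thickι (n : ℕ) : IsClosedImmersion (CohB1.thickι f I n) :=
  MorphismProperty.pullback_fst (P := @IsClosedImmersion) _ _
    (Groth.L16.Exist.Adic.isClosedImmersion_specQuot I n)

theorem isClosedImmersion_thickTrans (n : ℕ) : IsClosedImmersion (CohB1.thickTrans f I n) := by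
  haveI := isClosedImmersion_thickι I f (n + 1)
  haveI : IsClosedImmersion (CohB1.thickTrans f I n ≫ CohB1.thickι f I (n + 1)) := by
    rw [AlgFin.thickTrans_ι]; exact isClosedImmersion_thickι I f n
  exact IsClosedImmersion.of_comp (CohB1.thickTrans f I n) (CohB1.thickι f I (n + 1))

theorem surjective_thickTrans (n : ℕ) : Surjective (CohB1.thickTrans f I n) := by
  haveI := isClosedImmersion_thickι I f (n + 1)
  refine ⟨fun x => ?_⟩
  have hx : CohB1.thickι f I (n + 1) x ∈ Set.range (CohB1.thickι f I n) := by
    have h : CohB1.thickι f I (n + 1) x ∈ Set.range (CohB1.thickι f I (n + 1)) := ⟨x, rfl⟩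
    erw [Scheme.Pullback.range_fst, range_specQuot] at h
    erw [Scheme.Pullback.range_fst, range_specQuot]
    exact h
  obtain ⟨y, hy⟩ := hx
  refine ⟨y, (CohB1.thickι f I (n + 1)).isClosedEmbedding.injective ?_⟩
  rw [← hy, ← Scheme.Hom.comp_apply, AlgFin.thickTrans_ι]

theorem isEquivalence_thickTrans (n : ℕ) : (FEt.restrict (CohB1.thickTrans f I n)).IsEquivalence := by
  haveI := isClosedImmersion_thickTrans I f n
  haveI := surjective_thickTrans I f n
  exact Groth.Agent.S0238.result _

/-- The first thickening is the special fibre. -/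
theorem exists_iso_thick_zero : ∃ e : CohB1.thick f I 0 ≅ pullback f (HenselProper.ι I),
    e.hom ≫ i I f = CohB1.thickι f I 0 := by
  let r : A ⧸ I ≃+* A ⧸ I ^ (0 + 1) := Ideal.quotEquivOfEq (by rw [zero_add, pow_one])
  let s : Spec (CommRingCat.of (A ⧸ I ^ (0 + 1))) ≅ Spec (CommRingCat.of (A ⧸ I)) :=
    Scheme.Spec.mapIso r.toCommRingCatIso.op
  have hs : s.hom ≫ HenselProper.ι I = CohB1.specQuot I 0 := by
    show Spec.map _ ≫ Spec.map _ = Spec.map _
    rw [← Spec.map_comp]
    rfl
  have h : IsPullback (CohB1.thickι f I 0) (CohB1.thickToBase f I 0 ≫ s.hom) f (HenselProper.ι I) := by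
    refine (IsPullback.of_hasPullback f (CohB1.specQuot I 0)).of_iso (Iso.refl _) (Iso.refl _) s (Iso.refl _)
      (by simp) (by simp) (by simp) ?_
    simpa using hs.symm
  exact ⟨h.isoPullback, h.isoPullback_hom_fst⟩

/-- Finite étale covers of the special fibre of a proper scheme over a complete Noetherian ring lift. -/
theorem essSurj_complete [IsNoetherianRing A] [IsAdicComplete I A] [IsProper f] :
    (FEt.restrict (i I f)).EssSurj where
  mem_essImage U₀ := by
    obtain ⟨e, he⟩ := exists_iso_thick_zero I f
    haveI := fun n => isEquivalence_thickTrans I f n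
    let lift : ∀ n, FEt.Cat (CohB1.thick f I n) → FEt.Cat (CohB1.thick f I (n + 1)) := fun n Y =>
      (FEt.restrict (CohB1.thickTrans f I n)).objPreimage Y
    let Y : ∀ n, FEt.Cat (CohB1.thick f I n) := fun n =>
      Nat.rec (motive := fun n => FEt.Cat (CohB1.thick f I n)) ((FEt.restrict e.hom).obj U₀) lift n
    let φ : ∀ n, Y n ≅ (FEt.restrict (CohB1.thickTrans f I n)).obj (Y (n + 1)) := fun n =>
      ((FEt.restrict (CohB1.thickTrans f I n)).objObjPreimageIso (Y n)).symm
    let φ' : ∀ n, (Y n).left ≅ pullback (Y (n + 1)).hom (CohB1.thickTrans f I n) := fun n =>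
      (MorphismProperty.Over.forget FEt.prop ⊤ _ ⋙ Over.forget _).mapIso (φ n)
    let t : ∀ n, (Y n).left ⟶ (Y (n + 1)).left := fun n =>
      (φ' n).hom ≫ pullback.fst (Y (n + 1)).hom (CohB1.thickTrans f I n)
    have ht : ∀ n, IsPullback (t n) (Y n).hom (Y (n + 1)).hom (CohB1.thickTrans f I n) := fun n => by
      refine (IsPullback.of_hasPullback (Y (n + 1)).hom (CohB1.thickTrans f I n)).of_iso (φ' n).symm (Iso.refl _)
        (Iso.refl _) (Iso.refl _) ?_ ?_ (by simp) (by simp)
      · simp [t]
      · rw [Iso.refl_hom, Category.comp_id, Iso.symm_hom, Iso.eq_inv_comp]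
        exact MorphismProperty.Over.w (φ n).hom
    have hp : IsProper ((Y 0).hom ≫ CohB1.thickToBase f I 0) := by
      haveI : IsFinite (Y 0).hom := (Y 0).prop.1
      haveI : IsProper (CohB1.thickToBase f I 0) := MorphismProperty.pullback_snd (P := @IsProper) _ _ inferInstance
      infer_instance
    obtain ⟨W, j, w, hj, -, -, hcart⟩ :=
      AlgFin.exists_algebraization I f (fun n => (Y n).left) (fun n => (Y n).hom) t (fun n => (Y n).prop.1) ht hp
    haveI := hj
    haveI : Etale j := etale_of_thick I f j fun n => by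
      rw [← (hcart n).isoPullback_inv_snd]
      haveI : Etale (Y n).hom := (Y n).prop.2
      infer_instance
    let Wc : FEt.Cat X := MorphismProperty.Over.mk ⊤ j ⟨hj, inferInstance⟩
    let ψ : (FEt.restrict (CohB1.thickι f I 0)).obj Wc ≅ (FEt.restrict e.hom).obj U₀ :=
      MorphismProperty.Over.isoMk (hcart 0).isoPullback.symm (by exact (hcart 0).isoPullback_inv_snd)
    let χ : (FEt.restrict e.hom).obj ((FEt.restrict (i I f)).obj Wc) ≅ (FEt.restrict e.hom).obj U₀ :=
      (restrictComp e.hom (i I f)).symm.app Wc ≪≫ (restrictCongr he).app Wc ≪≫ ψ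
    haveI : (FEt.restrict e.hom).IsEquivalence := Groth.Agent.S0238.result e.hom
    exact ⟨Wc, ⟨(FEt.restrict e.hom).preimageIso χ⟩⟩

/-- Finite étale covers of a proper scheme over a complete Noetherian ring are those of its special fibre. -/
theorem isEquivalence_complete [IsNoetherianRing A] [IsAdicComplete I A] [IsProper f] :
    (FEt.restrict (i I f)).IsEquivalence :=
  haveI := faithful I f
  haveI := full I f
  haveI := essSurj_complete I f
  { }

end Groth.L27.FEtProper
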