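import Groth.Agent.L27.FEtProper.EtaleTower
import Groth.Agent.L27.HenselProperGen
import Groth.Agent.L05.Point.Crit
import Groth.Prelude.Def_CohB1

/-! # A finite scheme over a proper scheme, étale over all thickenings of the special fibre, is étale -/

set_option autoImplicit false
set_option linter.style.haveILetI false
set_option backward.isDefEq.respectTransparency false
set_option backward.isDefEq.respectTransparency.types false

universe u

open CategoryTheory CategoryTheory.Limits AlgebraicGeometry TopologicalSpace TensorProduct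

noncomputable section

namespace Groth.L27.FEtProper

open Groth.L05.Point (Nhd nhd_of_openImm)

variable {A : Type u} [CommRing A] (I : Ideal A) {X : Scheme.{u}} (f : X ⟶ Spec (CommRingCat.of A))

/-- The open set where a morphism is étale. -/
def etaleOpen {W : Scheme.{u}} (i : W ⟶ X) : W.Opens :=
  ⨆ U : {U : W.Opens // Etale (U.ι ≫ i)}, U.1

theorem mem_etaleOpen {W : Scheme.{u}} (i : W ⟶ X) (w : W) : w ∈ etaleOpen i ↔ Nhd @Etale i w := by
  rw [etaleOpen, Opens.mem_iSup]
  exact ⟨fun ⟨U, hw⟩ => ⟨U.1, hw, U.2⟩, fun ⟨U, hw, hU⟩ => ⟨⟨U, hU⟩, hw⟩⟩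

theorem nhd_etale_of_mem_special [IsNoetherianRing A] [IsLocallyNoetherian X] {W : Scheme.{u}} (i : W ⟶ X)
    [IsFinite i] (h : ∀ n, Etale (pullback.snd i (CohB1.thickι f I n))) (w : W)
    (hw : f (i w) ∈ PrimeSpectrum.zeroLocus (I : Set A)) : Nhd @Etale i w := by
  obtain ⟨U, hU, hxU, -⟩ := exists_isAffineOpen_mem_and_subset (x := i w) (U := ⊤) trivial
  let V := i ⁻¹ᵁ U
  have hV : IsAffineOpen V := hU.preimage i
  letI := (i.appLE U V le_rfl).hom.toAlgebra
  haveI : IsNoetherianRing Γ(X, U) := IsLocallyNoetherian.component_noetherian ⟨U, hU⟩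
  haveI : Module.Finite Γ(X, U) Γ(W, V) := by
    show (i.appLE U V le_rfl).hom.Finite
    rw [← Scheme.Hom.app_eq_appLE]
    exact i.finite_app U hU
  let s : A →+* Γ(X, U) := (Spec.preimage (hU.fromSpec ≫ f)).hom
  have hs : Spec.map (CommRingCat.ofHom s) = hU.fromSpec ≫ f := Spec.map_preimage _
  let J := I.map s
  let a : Spec Γ(W, V) ⟶ Spec Γ(X, U) := Spec.map (CommRingCat.ofHom (algebraMap Γ(X, U) Γ(W, V)))
  have ha : IsPullback hV.fromSpec a i hU.fromSpec := by
    refine IsOpenImmersion.isPullback _ _ _ _ (hU.SpecMap_appLE_fromSpec i hV le_rfl).symm ?_ |>.flip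
    apply Opens.ext
    show i ⁻¹' Set.range hU.fromSpec = Set.range hV.fromSpec
    rw [hV.range_fromSpec, hU.range_fromSpec]
    rfl
  have hn : ∀ n, Algebra.Etale (Γ(X, U) ⧸ J ^ (n + 1)) ((Γ(X, U) ⧸ J ^ (n + 1)) ⊗[Γ(X, U)] Γ(W, V)) := by
    intro n
    let π : A ⧸ I ^ (n + 1) →+* Γ(X, U) ⧸ J ^ (n + 1) :=
      Ideal.quotientMap (J ^ (n + 1)) s (by
        rw [← Ideal.map_le_iff_le_comap, Ideal.map_pow])
    let qn : Spec (CommRingCat.of (Γ(X, U) ⧸ J ^ (n + 1))) ⟶ Spec Γ(X, U) :=
      Spec.map (CommRingCat.ofHom (Ideal.Quotient.mk (J ^ (n + 1))))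
    have hq : (qn ≫ hU.fromSpec) ≫ f = Spec.map (CommRingCat.ofHom π) ≫ CohB1.specQuot I n := by
      rw [Category.assoc, ← hs]
      show Spec.map _ ≫ Spec.map _ = Spec.map _ ≫ Spec.map _
      rw [← Spec.map_comp, ← Spec.map_comp]
      rfl
    let b : Spec (CommRingCat.of (Γ(X, U) ⧸ J ^ (n + 1))) ⟶ CohB1.thick f I n :=
      pullback.lift (qn ≫ hU.fromSpec) (Spec.map (CommRingCat.ofHom π)) hq
    have h1 : IsPullback (pullback.snd qn a ≫ hV.fromSpec) (pullback.fst qn a) i (b ≫ CohB1.thickι f I n) := by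
      rw [show b ≫ CohB1.thickι f I n = qn ≫ hU.fromSpec from pullback.lift_fst _ _ _]
      exact (IsPullback.of_hasPullback qn a).flip.paste_horiz ha
    haveI := h n
    haveI : Etale (pullback.fst qn a) :=
      MorphismProperty.of_isPullback (P := @Etale)
        (IsPullback.of_right (h₁₁ := pullback.lift (pullback.snd qn a ≫ hV.fromSpec) (pullback.fst qn a ≫ b)
            (by rw [Category.assoc]; exact h1.w))
          (v₁₁ := pullback.fst qn a) (h₂₁ := b) (by rw [pullback.lift_fst]; exact h1)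
          (pullback.lift_snd _ _ _) (IsPullback.of_hasPullback i (CohB1.thickι f I n)))
        inferInstance
    have h2 : (CommRingCat.ofHom (algebraMap (Γ(X, U) ⧸ J ^ (n + 1))
        ((Γ(X, U) ⧸ J ^ (n + 1)) ⊗[Γ(X, U)] Γ(W, V)))).hom.Etale := by
      refine (HasRingHomProperty.Spec_iff (P := @AlgebraicGeometry.Etale)).mp ?_
      have e := pullbackSpecIso_inv_fst Γ(X, U) (Γ(X, U) ⧸ J ^ (n + 1)) Γ(W, V)
      rw [show Spec.map (CommRingCat.ofHom (algebraMap (Γ(X, U) ⧸ J ^ (n + 1))
          ((Γ(X, U) ⧸ J ^ (n + 1)) ⊗[Γ(X, U)] Γ(W, V)))) =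
          (pullbackSpecIso Γ(X, U) (Γ(X, U) ⧸ J ^ (n + 1)) Γ(W, V)).inv ≫ pullback.fst _ _ from e.symm]
      infer_instance
    exact RingHom.etale_algebraMap.mp h2
  let w' := hV.primeIdealOf ⟨w, hxU⟩
  have hwV : hV.fromSpec w' = w := hV.fromSpec_primeIdealOf _
  have hq : J.map (algebraMap Γ(X, U) Γ(W, V)) ≤ w'.asIdeal := by
    rw [Ideal.map_le_iff_le_comap, Ideal.map_le_iff_le_comap]
    intro c hc
    have e : f (i w) = Spec.map (CommRingCat.ofHom s) (a w') := by
      rw [hs]
      exact congrArg f ((congrArg i hwV).symm.trans congr($(ha.w) w'))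
    rw [e] at hw
    exact hw hc
  obtain ⟨g, hg, hget⟩ := exists_etale_away Γ(W, V) hn w'.asIdeal hq
  let l : Spec (CommRingCat.of (Localization.Away g)) ⟶ Spec Γ(W, V) :=
    Spec.map (CommRingCat.ofHom (algebraMap Γ(W, V) (Localization.Away g)))
  haveI : IsOpenImmersion l := IsOpenImmersion.of_isLocalization g
  obtain ⟨z, hz⟩ : w' ∈ Set.range l := by
    show w' ∈ Set.range (PrimeSpectrum.comap (algebraMap Γ(W, V) (Localization.Away g)))
    rw [PrimeSpectrum.localization_away_comap_range (Localization.Away g) g]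
    exact hg
  have hwz : (l ≫ hV.fromSpec) z = w := by rw [Scheme.Hom.comp_apply, hz, hwV]
  rw [← hwz]
  refine nhd_of_openImm i (l ≫ hV.fromSpec) z ?_
  rw [Category.assoc, ha.w, ← Category.assoc]
  haveI : Etale (l ≫ a) := by
    rw [← Spec.map_comp]
    refine (HasRingHomProperty.Spec_iff (P := @AlgebraicGeometry.Etale)).mpr ?_
    show ((algebraMap Γ(W, V) (Localization.Away g)).comp (algebraMap Γ(X, U) Γ(W, V))).Etale
    rw [← IsScalarTower.algebraMap_eq]
    exact RingHom.etale_algebraMap.mpr hget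
  infer_instance

/-- A finite morphism to a proper scheme over a Noetherian henselian pair is étale if it is étale over every
thickening of the special fibre. -/
theorem etale_of_thick [IsNoetherianRing A] [HenselianRing A I] [IsProper f] {W : Scheme.{u}} (i : W ⟶ X)
    [IsFinite i] (h : ∀ n, Etale (pullback.snd i (CohB1.thickι f I n))) : Etale i := by
  haveI : IsLocallyNoetherian X := LocallyOfFiniteType.isLocallyNoetherian f
  haveI : IsProper (i ≫ f) := inferInstance
  have hc : ((etaleOpen i : Set W))ᶜ = ∅ := by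
    refine Groth.L27.HenselProper.closed_eq_empty_general I (i ≫ f) (etaleOpen i).isOpen.isClosed_compl ?_
    refine Set.disjoint_compl_right_iff_subset.mpr ?_
    rw [Scheme.Pullback.range_fst, Groth.L27.HenselProper.range_ι]
    intro w hw
    exact (mem_etaleOpen i w).mpr (nhd_etale_of_mem_special I f i h w hw)
  refine (IsZariskiLocalAtSource.iff_of_iSup_eq_top (P := @Etale)
    (fun U : {U : W.Opens // Etale (U.ι ≫ i)} => U.1) ?_).mpr fun U => U.2
  refine top_le_iff.mp fun w _ => ?_
  by_contra hne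
  exact (Set.eq_empty_iff_forall_notMem.mp hc) w hne

end Groth.L27.FEtProper
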