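import Groth.Agent.L27.FEtProper.Artin
import Groth.Agent.L05.ModelFG
import Groth.Agent.L02.ConsP.PairDescends
import Groth.Agent.L02.ConsP.Main
import Groth.Agent.L03.GRingInt
import Groth.Agent.S2051
import Groth.Agent.S9276
import Groth.Agent.S0599
import Groth.Agent.S2079

/-! # Finite étale covers of proper schemes over henselian pairs -/

set_option autoImplicit false
set_option linter.style.haveILetI false
set_option backward.isDefEq.respectTransparency false
set_option backward.isDefEq.respectTransparency.types false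

universe u

open CategoryTheory CategoryTheory.Limits AlgebraicGeometry TopologicalSpace Opposite

noncomputable section

namespace Groth.L27.FEtProper

/-- Transport of the essential image along a commutative square. -/
theorem essImage_of_comm {P₀ P P₀' P' : Scheme.{u}} (a : P₀ ⟶ P) (g : P ⟶ P') (a' : P₀' ⟶ P') (g₀ : P₀ ⟶ P₀')
    (w : a ≫ g = g₀ ≫ a') (h : (FEt.restrict a').EssSurj) (U₀' : FEt.Cat P₀') (U₀ : FEt.Cat P₀)
    (e : (FEt.restrict g₀).obj U₀' ≅ U₀) : (FEt.restrict a).essImage U₀ := by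
  haveI := h
  refine ⟨(FEt.restrict g).obj ((FEt.restrict a').objPreimage U₀'), ⟨?_⟩⟩
  exact (restrictComp a g).symm.app _ ≪≫ (restrictCongr w).app _ ≪≫ (restrictComp g₀ a').app _ ≪≫
    (FEt.restrict g₀).mapIso ((FEt.restrict a').objObjPreimageIso U₀') ≪≫ e

/-- A subring generated by finitely many elements is a G-ring. -/
theorem isGRing_of_fg {A : Type u} [CommRing A] (B : Subalgebra ℤ A) (hB : B.FG) : CAlg.IsGRing ↥B := by
  haveI : Algebra.FiniteType ℤ ↥B := B.fg_iff_finiteType.mp hB
  letI : Algebra (ULift.{u} ℤ) ↥B := ((algebraMap ℤ ↥B).comp ULift.ringEquiv.toRingHom).toAlgebra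
  haveI : Algebra.FiniteType (ULift.{u} ℤ) ↥B := by
    have h : ((algebraMap ℤ ↥B).comp (ULift.ringEquiv : ULift.{u} ℤ ≃+* ℤ).toRingHom).FiniteType :=
      RingHom.FiniteType.comp (RingHom.finiteType_algebraMap.mpr inferInstance)
        (RingHom.FiniteType.of_surjective _ (RingEquiv.surjective _))
    exact h
  exact Groth.Agent.S0599.result (ULift.{u} ℤ) Groth.L03.GRingInt.isGRing_int ↥B

variable {A : Type u} [CommRing A] (I : Ideal A)

/-- Elements of a finitely generated algebra mapping to `A / I` come from a finitely generated subring. -/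
theorem exists_model_ring (A₀ : Subalgebra ℤ A) (hA₀ : A₀.FG) {C : Type u} [CommRing C] [Algebra ↥A₀ C]
    [Algebra.FiniteType ↥A₀ C] (φ : C →ₐ[↥A₀] A ⧸ I) :
    ∃ B : Subalgebra ℤ A, B.FG ∧ A₀ ≤ B ∧ ∀ c, ∃ b : ↥B, Ideal.Quotient.mk I (b : A) = φ c := by
  classical
  obtain ⟨s, hs⟩ := (inferInstance : Algebra.FiniteType ↥A₀ C)
  choose l hl using fun c => Ideal.Quotient.mk_surjective (φ c)
  refine ⟨A₀ ⊔ Algebra.adjoin ℤ ((s.image l : Finset A) : Set A), hA₀.sup (Subalgebra.fg_adjoin_finset _),
    le_sup_left, fun c => ?_⟩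
  have hc : c ∈ Algebra.adjoin ↥A₀ (s : Set C) := hs ▸ Algebra.mem_top
  induction hc using Algebra.adjoin_induction with
  | mem x hx =>
    exact ⟨⟨l x, le_sup_right (a := A₀) (Algebra.subset_adjoin (Finset.mem_coe.2 (Finset.mem_image_of_mem l hx)))⟩, hl x⟩
  | algebraMap r => exact ⟨⟨(r : A), le_sup_left (a := A₀) r.2⟩, (φ.commutes r).symm⟩
  | add x y _ _ hx hy =>
    obtain ⟨b, hb⟩ := hx
    obtain ⟨b', hb'⟩ := hy
    exact ⟨b + b', by rw [map_add, ← hb, ← hb']; exact map_add _ _ _⟩
  | mul x y _ _ hx hy =>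
    obtain ⟨b, hb⟩ := hx
    obtain ⟨b', hb'⟩ := hy
    exact ⟨b * b', by rw [map_mul, ← hb, ← hb']; exact map_mul _ _ _⟩

variable {X : Scheme.{u}} (f : X ⟶ Spec (CommRingCat.of A))

/-- Essential surjectivity for proper morphisms of finite presentation. -/
theorem essSurj_of_fp [HenselianRing A I] [IsProper f] [LocallyOfFinitePresentation f] :
    (FEt.restrict (i I f)).EssSurj where
  mem_essImage U₀ := by
    obtain ⟨A₀, hA₀, X₀, f₀, g, hf₀, -, -, sq⟩ :=
      Groth.L05.ModelFG.exists_model A L02.ConsP.descends_isProper f (inferInstanceAs (IsProper f))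
    haveI := hf₀
    let a₀ : Spec (CommRingCat.of A) ⟶ Spec (CommRingCat.of ↥A₀) :=
      Spec.map (CommRingCat.ofHom (algebraMap (↥A₀) A))
    -- the special fibre as a limit
    let Q : MorphismProperty CommRingCat.{u} := RingHom.toMorphismProperty RingHom.FinitePresentation
    haveI : Q.RespectsIso :=
      RingHom.toMorphismProperty_respectsIso_iff.mp RingHom.finitePresentation_respectsIso
    have hind : MorphismProperty.ind.{u} Q (CommRingCat.ofHom (algebraMap ↥A₀ (A ⧸ I))) :=
      Groth.L27.IndEtale.ind_of_factor (Q := Q) (fun f hf => hf) fun P _ _ hP φ =>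
        ⟨P, inferInstance, inferInstance, AlgHom.id _ P, φ, RingHom.finitePresentation_algebraMap.mpr hP, rfl⟩
    obtain ⟨Js, _, _, D, t, s, hs, hst⟩ := hind
    haveI : PreservesLimitsOfSize.{u, u} Scheme.Spec.{u} := ΓSpec.adjunction.rightAdjoint_preservesLimits
    let Ds : Jsᵒᵖ ⥤ Scheme.{u} := D.op ⋙ Scheme.Spec
    let cs : Cone Ds := Scheme.Spec.mapCone (Cocone.mk _ s).op
    let hcs : IsLimit cs := isLimitOfPreserves Scheme.Spec hs.op
    haveI hbase : ∀ {j k : Jsᵒᵖ} (g : j ⟶ k), IsAffineHom (Ds.map g) := fun g =>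
      inferInstanceAs (IsAffineHom (Spec.map _))
    let tt : ∀ j, Ds.obj j ⟶ Spec (CommRingCat.of ↥A₀) := fun j => Spec.map (t.app j.unop)
    have htt : ∀ {j k : Jsᵒᵖ} (g : j ⟶ k), Ds.map g ≫ tt k = tt j := fun {j k} g => by
      show Spec.map (D.map g.unop) ≫ Spec.map (t.app k.unop) = Spec.map (t.app j.unop)
      rw [← Spec.map_comp, ← t.naturality]
      simp
    let T : Spec (CommRingCat.of (A ⧸ I)) ⟶ Spec (CommRingCat.of ↥A₀) :=
      Spec.map (CommRingCat.ofHom (algebraMap ↥A₀ (A ⧸ I)))
    have hT : ∀ j, cs.π.app j ≫ tt j = T := fun j => by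
      show Spec.map (s.app j.unop) ≫ Spec.map (t.app j.unop) = _
      rw [← Spec.map_comp, (hst j.unop).2]
    let DX := Groth.L19.Limit.baseDiagram f₀ tt htt
    let cX := Groth.L19.Limit.baseCone f₀ tt htt T hT (c := cs)
    let hcX := Groth.L19.Limit.isLimitBaseCone f₀ tt htt T hT hcs
    haveI : ∀ (j k : Jsᵒᵖ) (g : j ⟶ k), IsAffineHom (DX.map g) := fun j k g =>
      Groth.L19.Limit.isAffineHom_baseDiagram_map f₀ tt htt g
    haveI : ∀ j, IsAffine (Ds.obj j) := fun j => inferInstanceAs (IsAffine (Spec _))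
    haveI hqc : ∀ j, CompactSpace ↥(DX.obj j) := fun j =>
      QuasiCompact.compactSpace_of_compactSpace (pullback.snd f₀ (tt j))
    haveI hqs : ∀ j, QuasiSeparatedSpace ↥(DX.obj j) := fun j =>
      quasiSeparatedSpace_of_quasiSeparated (pullback.snd f₀ (tt j))
    have hTa : HenselProper.ι I ≫ a₀ = T := by
      rw [← Spec.map_comp]; rfl
    have hpb : IsPullback (i I f ≫ g) (pullback.snd f (HenselProper.ι I)) f₀ T := by
      rw [← hTa]
      exact (IsPullback.of_hasPullback f (HenselProper.ι I)).paste_horiz sq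
    let e := hpb.isoPullback
    haveI : (FEt.restrict e.hom).IsEquivalence := Groth.Agent.S0238.result e.hom
    let U₁ := (FEt.restrict e.hom).objPreimage U₀
    obtain ⟨j, Vj, ⟨χ⟩⟩ := (Groth.Agent.S12073.result DX cX hcX).1 U₁
    letI : Algebra ↥A₀ (D.obj j.unop) := (t.app j.unop).hom.toAlgebra
    haveI : Algebra.FiniteType ↥A₀ (D.obj j.unop) := by
      haveI : Algebra.FinitePresentation ↥A₀ (D.obj j.unop) := (hst j.unop).1
      infer_instance
    let φ : (D.obj j.unop) →ₐ[↥A₀] A ⧸ I :=
      { (s.app j.unop).hom with commutes' := fun r => ConcreteCategory.congr_hom (hst j.unop).2 r }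
    obtain ⟨B, hB, hAB, hφ⟩ := exists_model_ring I A₀ hA₀ φ
    let J : Ideal ↥B := I.comap (algebraMap ↥B A)
    letI : Algebra ↥A₀ ↥B := (Subalgebra.inclusion hAB).toRingHom.toAlgebra
    let γ : ↥B ⧸ J →+* A ⧸ I := Ideal.quotientMap I (algebraMap ↥B A) le_rfl
    have hγ : Function.Injective γ := Ideal.quotientMap_injective
    have hφ' : ∀ c, ∃ z, γ z = φ c := fun c => by
      obtain ⟨b, hb⟩ := hφ c
      exact ⟨Ideal.Quotient.mk J b, hb⟩
    choose ψ₀ hψ₀ using hφ'
    let ψ : (D.obj j.unop : Type u) →+* ↥B ⧸ J :=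
      { toFun := ψ₀
        map_one' := hγ (by rw [hψ₀, map_one, map_one])
        map_mul' := fun x y => hγ (by rw [hψ₀, map_mul, map_mul, hψ₀, hψ₀])
        map_zero' := hγ (by rw [hψ₀, map_zero, map_zero])
        map_add' := fun x y => hγ (by rw [hψ₀, map_add, map_add, hψ₀, hψ₀]) }
    have hψ : ∀ r : ↥A₀, ψ (algebraMap ↥A₀ _ r) = Ideal.Quotient.mk J (algebraMap ↥A₀ ↥B r) := fun r => hγ (by
      show γ (ψ₀ _) = _
      rw [hψ₀, φ.commutes]
      rfl)
    obtain ⟨Bh, _, _, hBh⟩ := Groth.Agent.S2051.result ↥B J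
    let Jh : Ideal Bh := J.map (algebraMap ↥B Bh)
    haveI : HenselianRing Bh Jh := hBh.1
    have hG : CAlg.IsGRing Bh := Groth.Agent.S9276.result ↥B (isGRing_of_fg B hB) J Bh hBh
    obtain ⟨η, hη, -⟩ := hBh.2 A I (algebraMap ↥B A) inferInstance Ideal.map_comap_le
    let δ : ↥B ⧸ J →+* Bh ⧸ Jh := Ideal.quotientMap Jh (algebraMap ↥B Bh) Ideal.le_comap_map
    let ηbar : Bh ⧸ Jh →+* A ⧸ I := Ideal.quotientMap I η (by
      rw [Ideal.map_le_iff_le_comap, Ideal.comap_comap, hη])
    have hηδ : ∀ c, ηbar (δ (ψ c)) = φ c := fun c => by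
      rw [← hψ₀ c]
      show ηbar (δ (ψ₀ c)) = γ (ψ₀ c)
      obtain ⟨b, hb⟩ := Ideal.Quotient.mk_surjective (ψ₀ c)
      rw [← hb]
      exact congrArg (Ideal.Quotient.mk I) (RingHom.congr_fun hη b)
    let th : Spec (CommRingCat.of Bh) ⟶ Spec (CommRingCat.of ↥A₀) :=
      Spec.map (CommRingCat.ofHom ((algebraMap ↥B Bh).comp (algebraMap ↥A₀ ↥B)))
    let fh : pullback f₀ th ⟶ Spec (CommRingCat.of Bh) := pullback.snd f₀ th
    have hηth : Spec.map (CommRingCat.ofHom η) ≫ th = a₀ := by
      rw [← Spec.map_comp, ← CommRingCat.ofHom_comp, ← RingHom.comp_assoc, hη]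
      rfl
    let σ : X ⟶ pullback f₀ th := pullback.lift g (f ≫ Spec.map (CommRingCat.ofHom η))
      (by rw [Category.assoc, hηth]; exact sq.w)
    have hψcomm : Spec.map (CommRingCat.ofHom (δ.comp ψ)) ≫ tt j = HenselProper.ι Jh ≫ th := by
      show Spec.map _ ≫ Spec.map _ = Spec.map _ ≫ Spec.map _
      rw [← Spec.map_comp, ← Spec.map_comp]
      refine congrArg Spec.map (CommRingCat.hom_ext (RingHom.ext fun r => ?_))
      show δ (ψ (algebraMap ↥A₀ _ r)) = Ideal.Quotient.mk Jh (algebraMap ↥B Bh (algebraMap ↥A₀ ↥B r))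
      rw [hψ]
      rfl
    let m : pullback fh (HenselProper.ι Jh) ⟶ DX.obj j :=
      pullback.lift (pullback.fst fh (HenselProper.ι Jh) ≫ pullback.fst f₀ th)
        (pullback.snd fh (HenselProper.ι Jh) ≫ Spec.map (CommRingCat.ofHom (δ.comp ψ))) (by
          rw [Category.assoc, Category.assoc, hψcomm, pullback.condition,
            ← Category.assoc (pullback.fst fh (HenselProper.ι Jh))]
          exact (congrArg (· ≫ th) (pullback.condition (f := fh) (g := HenselProper.ι Jh))).trans (Category.assoc _ _ _))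
    have hηι : Spec.map (CommRingCat.ofHom ηbar) ≫ HenselProper.ι Jh =
        HenselProper.ι I ≫ Spec.map (CommRingCat.ofHom η) := by
      rw [← Spec.map_comp, ← Spec.map_comp]
      rfl
    let κ : pullback f (HenselProper.ι I) ⟶ pullback fh (HenselProper.ι Jh) :=
      pullback.lift (i I f ≫ σ) (pullback.snd f (HenselProper.ι I) ≫ Spec.map (CommRingCat.ofHom ηbar)) (by
        rw [Category.assoc, Category.assoc, pullback.lift_snd, hηι, ← Category.assoc, pullback.condition,
          Category.assoc])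
    have hm : κ ≫ m = e.hom ≫ cX.π.app j := by
      have hfst : cX.π.app j ≫ pullback.fst f₀ (tt j) = pullback.fst f₀ T :=
        (pullback.lift_fst _ _ _).trans (Category.comp_id _)
      have hsnd : cX.π.app j ≫ pullback.snd f₀ (tt j) = pullback.snd f₀ T ≫ Spec.map (s.app j.unop) :=
        pullback.lift_snd _ _ _
      refine pullback.hom_ext ?_ ?_
      · refine (Category.assoc _ _ _).trans (Eq.trans ?_ (Category.assoc _ _ _).symm)
        refine (congrArg (κ ≫ ·) (pullback.lift_fst _ _ _)).trans ?_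
        refine Eq.trans ?_ (congrArg (e.hom ≫ ·) hfst.symm)
        rw [← Category.assoc, show κ ≫ pullback.fst fh (HenselProper.ι Jh) = i I f ≫ σ from pullback.lift_fst _ _ _,
          Category.assoc, show σ ≫ pullback.fst f₀ th = g from pullback.lift_fst _ _ _]
        exact hpb.isoPullback_hom_fst.symm
      · refine (Category.assoc _ _ _).trans (Eq.trans ?_ (Category.assoc _ _ _).symm)
        refine (congrArg (κ ≫ ·) (pullback.lift_snd _ _ _)).trans ?_
        refine Eq.trans ?_ (congrArg (e.hom ≫ ·) hsnd.symm)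
        rw [← Category.assoc, ← Category.assoc,
          show κ ≫ pullback.snd fh (HenselProper.ι Jh) = pullback.snd f (HenselProper.ι I) ≫
            Spec.map (CommRingCat.ofHom ηbar) from pullback.lift_snd _ _ _,
          hpb.isoPullback_hom_snd, Category.assoc]
        refine congrArg (pullback.snd f (HenselProper.ι I) ≫ ·) ?_
        rw [← Spec.map_comp]
        refine congrArg Spec.map (CommRingCat.hom_ext (RingHom.ext fun c => ?_))
        exact hηδ c
    refine essImage_of_comm (i I f) σ (i Jh fh) κ (pullback.lift_fst _ _ _).symm (essSurj_isGRing Jh fh hG)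
      ((FEt.restrict m).obj Vj) U₀ ?_
    exact (restrictComp κ m).symm.app Vj ≪≫ (restrictCongr hm).app Vj ≪≫
      (restrictComp e.hom (cX.π.app j)).app Vj ≪≫ (FEt.restrict e.hom).mapIso χ ≪≫
      (FEt.restrict e.hom).objObjPreimageIso U₀

/-- Finite étale covers of the special fibre of a proper scheme over a henselian pair lift. -/
theorem essSurj [HenselianRing A I] [IsProper f] : (FEt.restrict (i I f)).EssSurj where
  mem_essImage U₀ := by
    obtain ⟨K, _, _, D, c, hc, e, htr, hD⟩ := Groth.Agent.S2079.result f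
    haveI : IsConnected K := IsCofiltered.isConnected K
    let F := Over.forget (Spec (CommRingCat.of A))
    let c' : Cone (D ⋙ F) := F.mapCone c
    have hc' : IsLimit c' := isLimitOfPreserves F hc
    haveI : ∀ {a b : K} (φ : a ⟶ b), IsAffineHom ((D ⋙ F).map φ) := fun {a b} φ => by
      haveI := htr a b φ
      exact inferInstanceAs (IsAffineHom (D.map φ).left)
    let tk : ∀ k, (D ⋙ F).obj k ⟶ Spec (CommRingCat.of A) := fun k => (D.obj k).hom
    let DX := Groth.L19.Limit.baseDiagram (HenselProper.ι I) tk fun φ => Over.w (D.map φ)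
    let cX := Groth.L19.Limit.baseCone (c := c') (HenselProper.ι I) tk (fun φ => Over.w (D.map φ)) c.pt.hom
      fun k => Over.w (c.π.app k)
    let hcX := Groth.L19.Limit.isLimitBaseCone (c := c') (HenselProper.ι I) tk (fun φ => Over.w (D.map φ)) c.pt.hom
      (fun k => Over.w (c.π.app k)) hc'
    haveI : ∀ (a b : K) (φ : a ⟶ b), IsAffineHom (DX.map φ) := fun a b φ =>
      Groth.L19.Limit.isAffineHom_baseDiagram_map (HenselProper.ι I) tk _ φ
    haveI hprop : ∀ k, IsProper (tk k) := fun k => (hD k).2.1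
    haveI hqc : ∀ k, CompactSpace ↥(DX.obj k) := fun k =>
      QuasiCompact.compactSpace_of_compactSpace (pullback.fst (HenselProper.ι I) (tk k))
    haveI hqs : ∀ k, QuasiSeparatedSpace ↥(DX.obj k) := fun k =>
      quasiSeparatedSpace_of_quasiSeparated (pullback.fst (HenselProper.ι I) (tk k))
    let u₁ : X ⟶ c.pt.left := e.inv.left
    let v₁ : c.pt.left ⟶ X := e.hom.left
    have h1 : u₁ ≫ c.pt.hom = f := Over.w e.inv
    let θ : pullback f (HenselProper.ι I) ⟶ pullback (HenselProper.ι I) c.pt.hom :=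
      pullback.lift (pullback.snd f (HenselProper.ι I)) (i I f ≫ u₁)
        (by rw [Category.assoc, h1]; exact pullback.condition.symm)
    haveI : IsIso θ := by
      refine ⟨pullback.lift (pullback.snd (HenselProper.ι I) c.pt.hom ≫ v₁) (pullback.fst (HenselProper.ι I) c.pt.hom) ?_,
        ?_, ?_⟩
      · rw [Category.assoc, show v₁ ≫ f = c.pt.hom from Over.w e.hom]
        exact pullback.condition.symm
      · refine pullback.hom_ext ?_ ?_
        · rw [Category.assoc, pullback.lift_fst, ← Category.assoc, pullback.lift_snd, Category.assoc, Category.id_comp]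
          exact (congrArg (i I f ≫ ·) (congrArg CommaMorphism.left e.inv_hom_id)).trans (Category.comp_id _)
        · rw [Category.assoc, pullback.lift_snd, pullback.lift_fst, Category.id_comp]
      · refine pullback.hom_ext ?_ ?_
        · rw [Category.assoc, pullback.lift_fst, pullback.lift_snd, Category.id_comp]
        · rw [Category.assoc, pullback.lift_snd, ← Category.assoc, pullback.lift_fst, Category.assoc, Category.id_comp]
          exact (congrArg (pullback.snd (HenselProper.ι I) c.pt.hom ≫ ·)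
            (congrArg CommaMorphism.left e.hom_inv_id)).trans (Category.comp_id _)
    haveI : (FEt.restrict θ).IsEquivalence := Groth.Agent.S0238.result θ
    let U₁ := (FEt.restrict θ).objPreimage U₀
    obtain ⟨k, Vk, ⟨χ⟩⟩ := (Groth.Agent.S12073.result DX cX hcX).1 U₁
    let fk := tk k
    haveI : LocallyOfFinitePresentation fk := (hD k).2.2
    let g : X ⟶ (D ⋙ F).obj k := u₁ ≫ (c.π.app k).left
    let g₀ : pullback f (HenselProper.ι I) ⟶ pullback fk (HenselProper.ι I) :=
      pullback.lift (i I f ≫ g) (pullback.snd f (HenselProper.ι I)) (by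
        rw [Category.assoc, Category.assoc]
        refine (congrArg (fun t => i I f ≫ u₁ ≫ t) (Over.w (c.π.app k))).trans ?_
        exact (congrArg (i I f ≫ ·) h1).trans pullback.condition)
    let sw := (pullbackSymmetry fk (HenselProper.ι I)).hom
    have hθ : g₀ ≫ sw = θ ≫ cX.π.app k := by
      have hfst : cX.π.app k ≫ pullback.fst (HenselProper.ι I) (tk k) = pullback.fst (HenselProper.ι I) c.pt.hom :=
        (pullback.lift_fst _ _ _).trans (Category.comp_id _)
      have hsnd : cX.π.app k ≫ pullback.snd (HenselProper.ι I) (tk k) =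
          pullback.snd (HenselProper.ι I) c.pt.hom ≫ (c.π.app k).left := pullback.lift_snd _ _ _
      refine pullback.hom_ext ?_ ?_
      · refine (Category.assoc _ _ _).trans (Eq.trans ?_ (Category.assoc _ _ _).symm)
        refine (congrArg (g₀ ≫ ·) (pullbackSymmetry_hom_comp_fst _ _)).trans ?_
        refine Eq.trans ?_ (congrArg (θ ≫ ·) hfst.symm)
        exact (pullback.lift_snd _ _ _).trans (pullback.lift_fst _ _ _).symm
      · refine (Category.assoc _ _ _).trans (Eq.trans ?_ (Category.assoc _ _ _).symm)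
        refine (congrArg (g₀ ≫ ·) (pullbackSymmetry_hom_comp_snd _ _)).trans ?_
        refine Eq.trans ?_ (congrArg (θ ≫ ·) hsnd.symm)
        rw [pullback.lift_fst, ← Category.assoc, ← Category.assoc θ]
        exact congrArg (· ≫ (c.π.app k).left) (pullback.lift_snd _ _ _).symm
    refine essImage_of_comm (i I f) g (i I fk) g₀ (pullback.lift_fst _ _ _).symm (essSurj_of_fp I fk)
      ((FEt.restrict sw).obj Vk) U₀ ?_
    exact (restrictComp g₀ sw).symm.app Vk ≪≫ (restrictCongr hθ).app Vk ≪≫
      (restrictComp θ (cX.π.app k)).app Vk ≪≫ (FEt.restrict θ).mapIso χ ≪≫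
      (FEt.restrict θ).objObjPreimageIso U₀

/-- Finite étale covers of a scheme proper over a henselian pair are those of the special fibre. -/
theorem isEquivalence [HenselianRing A I] [IsProper f] : (FEt.restrict (i I f)).IsEquivalence :=
  haveI := faithful I f
  haveI := full I f
  haveI := essSurj I f
  { }

end Groth.L27.FEtProper
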