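import Groth.Agent.L27.FEtProper.General
import Groth.Agent.L27.SGA1.FEtFaithful
import Groth.Agent.L27.SGA1.FieldFibres
import Groth.Agent.L27.TopInv.Hom
import Groth.Agent.S0239
import Groth.Agent.S0240
import Groth.Agent.S5117
import Groth.Agent.S0269

/-! # The homotopy sequence of a proper scheme over a henselian local ring -/

set_option autoImplicit false
set_option linter.style.haveILetI false
set_option backward.isDefEq.respectTransparency false
set_option backward.isDefEq.respectTransparency.types false

universe u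

open CategoryTheory CategoryTheory.Limits AlgebraicGeometry TopologicalSpace

noncomputable section

namespace Groth.L27.FEtHomotopy

open Groth.L27.FEtProper (restrictComp restrictCongr)

variable {A : Type u} [CommRing A] [HenselianLocalRing A]

/-- The closed point. -/
abbrev cl (A : Type u) [CommRing A] [IsLocalRing A] :
    Spec (CommRingCat.of (IsLocalRing.ResidueField A)) ⟶ Spec (CommRingCat.of A) :=
  Spec.map (CommRingCat.ofHom (IsLocalRing.residue A))

/-- The algebraic closure of the residue field. -/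
abbrev kb (A : Type u) [CommRing A] [IsLocalRing A] :
    Spec (CommRingCat.of (AlgebraicClosure (IsLocalRing.ResidueField A))) ⟶
      Spec (CommRingCat.of (IsLocalRing.ResidueField A)) :=
  Spec.map (CommRingCat.ofHom (algebraMap (IsLocalRing.ResidueField A)
    (AlgebraicClosure (IsLocalRing.ResidueField A))))

theorem kb_comp_cl (A : Type u) [CommRing A] [IsLocalRing A] :
    kb A ≫ cl A = Spec.map (CommRingCat.ofHom ((algebraMap (IsLocalRing.ResidueField A)
      (AlgebraicClosure (IsLocalRing.ResidueField A))).comp (IsLocalRing.residue A))) := by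
  rw [← Spec.map_comp]
  rfl

variable {X : Scheme.{u}} (f : X ⟶ Spec (CommRingCat.of A)) [IsProper f]

/-- The closed fibre. -/
abbrev X₀ : Scheme.{u} := pullback f (cl A)

/-- The structure morphism of the closed fibre. -/
abbrev f₀ : X₀ f ⟶ Spec (CommRingCat.of (IsLocalRing.ResidueField A)) := pullback.snd f (cl A)

/-- The inclusion of the closed fibre. -/
abbrev i₀ : X₀ f ⟶ X := pullback.fst f (cl A)

theorem compactSpace_closedFibre : CompactSpace (X₀ f) := QuasiCompact.compactSpace_of_compactSpace (f₀ f)

theorem quasiSeparatedSpace_closedFibre : QuasiSeparatedSpace (X₀ f) :=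
  quasiSeparatedSpace_of_quasiSeparated (f₀ f)

/-- The geometric closed fibre in two steps. -/
def θ : pullback (f₀ f) (kb A) ≅ pullback f (kb A ≫ cl A) := pullbackLeftPullbackSndIso f (cl A) (kb A)

theorem θ_hom_fst : (θ f).hom ≫ pullback.fst f (kb A ≫ cl A) = pullback.fst (f₀ f) (kb A) ≫ i₀ f :=
  pullbackLeftPullbackSndIso_hom_fst _ _ _

theorem connected_geom [ConnectedSpace ↥(pullback f (kb A ≫ cl A))] :
    ConnectedSpace ↥(pullback (f₀ f) (kb A)) :=
  (θ f).inv.homeomorph.surjective.connectedSpace (θ f).inv.continuous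

/-- The comparison of the two ways of restricting a cover of the base to the closed fibre. -/
def baseIso : FEt.restrict f ⋙ FEt.restrict (i₀ f) ≅ FEt.restrict (cl A) ⋙ FEt.restrict (f₀ f) :=
  (restrictComp (i₀ f) f).symm ≪≫ restrictCongr pullback.condition ≪≫ restrictComp (f₀ f) (cl A)

/-- Covers of a henselian local ring pull back fully faithfully to a proper scheme with connected geometric
closed fibre. -/
theorem full_faithful [ConnectedSpace ↥(pullback f (kb A ≫ cl A))] :
    (FEt.restrict f).Full ∧ (FEt.restrict f).Faithful := by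
  haveI := connected_geom f
  haveI : (FEt.restrict (i₀ f)).IsEquivalence := Groth.Agent.S0240.result A f
  haveI : (FEt.restrict (cl A)).IsEquivalence := Groth.Agent.S0239.result A (IsLocalRing.maximalIdeal A)
  haveI : Flat (f₀ f) := SGA1Conn.flat_toField _
  haveI : Surjective (f₀ f) := by
    obtain ⟨z⟩ : Nonempty ↥(pullback (f₀ f) (kb A)) := inferInstance
    exact ⟨fun x => ⟨pullback.fst (f₀ f) (kb A) z,
      Subsingleton.elim (α := Spec (CommRingCat.of (IsLocalRing.ResidueField A))) _ _⟩⟩
  obtain ⟨_, _⟩ := SGA1Conn.full_faithful_restrict (f₀ f) (L27.TopInv.univSubmersive_of_fpqc _)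
    fun K _ _ ξ => SGA1Conn.connectedSpace_of_algClosure (f₀ f) K ξ
  haveI : (FEt.restrict f ⋙ FEt.restrict (i₀ f)).Full := Functor.Full.of_iso (baseIso f).symm
  haveI : (FEt.restrict f ⋙ FEt.restrict (i₀ f)).Faithful := Functor.Faithful.of_iso (baseIso f).symm
  haveI : (FEt.restrict f).Faithful := Functor.Faithful.of_comp _ (FEt.restrict (i₀ f))
  exact ⟨Functor.Full.of_comp_faithful _ (FEt.restrict (i₀ f)), inferInstance⟩

/-- The closed fibre of a connected cover is connected. -/
theorem connected_restrict (X' : FEt.Cat X) [ConnectedSpace X'.left] :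
    ConnectedSpace ((FEt.restrict (i₀ f)).obj X').left := by
  show ConnectedSpace ↥(pullback X'.hom (i₀ f))
  haveI : IsFinite X'.hom := X'.prop.1
  haveI : IsProper (X'.hom ≫ f) := inferInstance
  let p := pullback.fst X'.hom (i₀ f)
  have hne : Nonempty ↥(pullback X'.hom (i₀ f)) := by
    by_contra h
    rw [not_nonempty_iff] at h
    have he : (Set.univ : Set X'.left) = ∅ :=
      FEtProper.eq_empty (IsLocalRing.maximalIdeal A) f X'.hom isClosed_univ
        (Set.disjoint_left.2 fun _ ⟨z, _⟩ _ => h.elim z)
    exact Set.univ_nonempty.ne_empty he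
  haveI : PreconnectedSpace ↥(pullback X'.hom (i₀ f)) := by
    rw [preconnectedSpace_iff_clopen]
    intro V hV
    obtain ⟨U, ⟨hU, hUV⟩, -⟩ :=
      HenselProper.clopen_lift_along_general (IsLocalRing.maximalIdeal A) f X'.left X'.hom inferInstance V hV
    rcases isClopen_iff.1 hU with rfl | rfl
    · exact Or.inl hUV.symm
    · exact Or.inr hUV.symm
  exact { toNonempty := hne }

/-- A connected cover with a section over the geometric closed fibre comes from the base. -/
theorem from_base [ConnectedSpace ↥(pullback f (kb A ≫ cl A))] (X' : FEt.Cat X) [ConnectedSpace X'.left]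
    (σ : pullback f (kb A ≫ cl A) ⟶ X'.left) (hσ : σ ≫ X'.hom = pullback.fst f (kb A ≫ cl A)) :
    ∃ T : FEt.Cat (Spec (CommRingCat.of A)), Nonempty ((FEt.restrict f).obj T ≅ X') := by
  haveI := connected_geom f
  haveI := compactSpace_closedFibre f
  haveI := quasiSeparatedSpace_closedFibre f
  haveI := connected_restrict f X'
  haveI : (FEt.restrict (i₀ f)).IsEquivalence := Groth.Agent.S0240.result A f
  haveI : (FEt.restrict (cl A)).IsEquivalence := Groth.Agent.S0239.result A (IsLocalRing.maximalIdeal A)
  let σ' : pullback (f₀ f) (kb A) ⟶ pullback X'.hom (i₀ f) :=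
    pullback.lift ((θ f).hom ≫ σ) (pullback.fst _ _) (by rw [Category.assoc, hσ, θ_hom_fst])
  obtain ⟨S', ⟨e⟩⟩ := Groth.Agent.S5117.result _ (f₀ f) ((FEt.restrict (i₀ f)).obj X') σ'
    (pullback.lift_snd _ _ _)
  refine ⟨(FEt.restrict (cl A)).objPreimage S', ⟨(FEt.restrict (i₀ f)).preimageIso ?_⟩⟩
  exact (baseIso f).app _ ≪≫ (FEt.restrict (f₀ f)).mapIso ((FEt.restrict (cl A)).objObjPreimageIso S') ≪≫ e

/-- Covers of the geometric closed fibre are clopen pieces of covers of the whole. -/
theorem openClosed [ConnectedSpace ↥(pullback f (kb A ≫ cl A))] (V : FEt.Cat (pullback f (kb A ≫ cl A))) :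
    ∃ (U : FEt.Cat X) (ι : V ⟶ (FEt.restrict (pullback.fst f (kb A ≫ cl A))).obj U),
      IsOpenImmersion ι.left ∧ IsClosedImmersion ι.left := by
  haveI := connected_geom f
  haveI := compactSpace_closedFibre f
  haveI := quasiSeparatedSpace_closedFibre f
  haveI : (FEt.restrict (i₀ f)).IsEquivalence := Groth.Agent.S0240.result A f
  haveI : (FEt.restrict (θ f).hom).IsEquivalence := Groth.Agent.S0238.result (θ f).hom
  obtain ⟨U₀, j, hj, hj'⟩ := Groth.Agent.S0269.result _ (f₀ f) ((FEt.restrict (θ f).hom).obj V)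
  let U := (FEt.restrict (i₀ f)).objPreimage U₀
  let ψ : (FEt.restrict (θ f).hom).obj ((FEt.restrict (pullback.fst f (kb A ≫ cl A))).obj U) ≅
      (FEt.restrict (pullback.fst (f₀ f) (kb A))).obj U₀ :=
    (restrictComp _ _).symm.app U ≪≫ (restrictCongr (θ_hom_fst f)).app U ≪≫
      (restrictComp _ _).app U ≪≫
      (FEt.restrict (pullback.fst (f₀ f) (kb A))).mapIso ((FEt.restrict (i₀ f)).objObjPreimageIso U₀)
  let ι := (FEt.restrict (θ f).hom).preimage (j ≫ ψ.inv)
  refine ⟨U, ι, ?_⟩
  have hι : ((FEt.restrict (θ f).hom).map ι).left = j.left ≫ ψ.inv.left := by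
    rw [Functor.map_preimage]; rfl
  have h : ((FEt.restrict (θ f).hom).map ι).left ≫ pullback.fst _ (θ f).hom =
      pullback.fst V.hom (θ f).hom ≫ ι.left := SGA1Conn.restrict_map_fst _ ι
  have e : ι.left = inv (pullback.fst V.hom (θ f).hom) ≫ (j.left ≫ ψ.inv.left) ≫ pullback.fst _ (θ f).hom := by
    rw [IsIso.eq_inv_comp, ← hι]
    exact h.symm
  haveI : IsIso ψ.inv.left :=
    inferInstanceAs (IsIso ((MorphismProperty.Over.forget _ _ _ ⋙ Over.forget _).map ψ.inv))
  rw [e]
  exact ⟨inferInstance, inferInstance⟩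

end Groth.L27.FEtHomotopy
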